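import Mathlib
import Cfsg.Prelude.Def_Classical
import Cfsg.Agent.Helper44.QTypeCount
import Cfsg.Agent.Helper94.Eo.Defs

set_option autoImplicit false
set_option linter.unusedSectionVars false
set_option linter.unusedVariables false

/-!
# S3589: `Sp_8(q)` and `GO_8^-(q)`, `q` even, have the same element orders — definitions

`q = |F|` even.  Every element order of `Sp_8(q)` divides one of the twelve numbers `fin12 q`
(characteristic polynomial: self-reciprocal of degree 8, peeled into blocks), and each of the twelve is the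
order of an isometry of the minus-type quadratic form in dimension 8 (orthogonal sums of small pieces,
bookkeeping of the type by helper44's `HasType`).

* `Lr r q`: the maximal exponents for a self-reciprocal polynomial of degree `2 r` without the root `1`.
* `fin12 q`: the twelve maximal element orders.
* `Cov N ψ`: `ψ ∣ X ^ n - 1` for some `n ∈ N`.
* `Real F m ε n`: some nondegenerate quadratic space `(ι → F, Q)` of dimension `2 m` and type `ε` has an isometry of
  order `n`;  `RealAbs` the same with an abstract space `V : Type` and a linear isometry.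
-/

namespace Cfsg.Agent.Helper94.Sg

open Polynomial QuadraticMap Cfsg.Agent.Helper44.QType

universe u

/-- maximal exponents in half-dimension `r` (no root `1`) -/
def Lr (r q : ℕ) : List ℕ :=
  match r with
  | 0 => [1]
  | 1 => [q - 1, q + 1]
  | 2 => [q ^ 2 - 1, q ^ 2 + 1, 2 * (q - 1), 2 * (q + 1)]
  | 3 => [q ^ 3 - 1, q ^ 3 + 1, (q ^ 2 + 1) * (q - 1), (q ^ 2 + 1) * (q + 1), 2 * (q ^ 2 - 1),
      4 * (q - 1), 4 * (q + 1)]
  | 4 => [q ^ 4 + 1, q ^ 4 - 1, (q ^ 3 - 1) * (q + 1), (q ^ 3 + 1) * (q - 1),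
      2 * ((q ^ 2 + 1) * (q + 1)), 2 * ((q ^ 2 + 1) * (q - 1)), 4 * (q ^ 2 - 1)]
  | _ => []

/-- the twelve maximal element orders of `Sp_8(q)`, `q` even -/
def fin12 (q : ℕ) : List ℕ :=
  [q ^ 4 + 1, q ^ 4 - 1, (q ^ 3 - 1) * (q + 1), (q ^ 3 + 1) * (q - 1), 2 * (q ^ 3 + 1),
    2 * (q ^ 3 - 1), 2 * ((q ^ 2 + 1) * (q + 1)), 2 * ((q ^ 2 + 1) * (q - 1)), 4 * (q ^ 2 + 1),
    4 * (q ^ 2 - 1), 8 * (q + 1), 8 * (q - 1)]

/-- (this also makes Lean write the equation lemmas `Lr.eq_1 … Lr.eq_6` here, once, rather than in every file that unfolds `Lr`) -/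
theorem Lr_zero (q : ℕ) : Lr 0 q = [1] := by simp [Lr]

/-- (likewise for `fin12.eq_1`) -/
theorem fin12_length (q : ℕ) : (fin12 q).length = 12 := by simp [fin12]

/-- `ψ ∣ X ^ n - 1` for some `n` in the list -/
def Cov {F : Type u} [Field F] (N : List ℕ) (ψ : F[X]) : Prop := ∃ n ∈ N, ψ ∣ X ^ n - 1

/-- some nondegenerate quadratic space `(ι → F, Q)` of dimension `2 m` and type `ε` has an isometry of order `n` -/
def Real (F : Type u) [Field F] [Fintype F] (m : ℕ) (ε : ℤ) (n : ℕ) : Prop :=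
  ∃ (ι : Type) (_ : Fintype ι) (_ : DecidableEq ι) (Q : QuadraticForm F (ι → F)),
    Fintype.card ι = 2 * m ∧ (∀ x, (∀ y, polar Q x y = 0) → x = 0) ∧ HasType (⇑Q) m ε ∧
      ∃ g : ↥(Cfsg.isometryGroup F ⇑Q), orderOf g = n

/-- the same with an abstract space and a linear isometry -/
def RealAbs (F : Type u) [Field F] [Fintype F] (m : ℕ) (ε : ℤ) (n : ℕ) : Prop :=
  ∃ (V : Type) (_ : AddCommGroup V) (_ : Module F V) (_ : FiniteDimensional F V)
    (Q : QuadraticForm F V),
    Module.finrank F V = 2 * m ∧ (∀ x, (∀ y, polar Q x y = 0) → x = 0) ∧ HasType (⇑Q) m ε ∧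
      ∃ T : V ≃ₗ[F] V, (∀ v, Q (T v) = Q v) ∧ orderOf T = n

end Cfsg.Agent.Helper94.Sg
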