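import Mathlib
import Cfsg.Agent.Helper94.Sg.Defs
import Cfsg.Agent.Helper44.OrthRealizeC

set_option autoImplicit false
set_option linter.unusedSectionVars false
set_option linter.unusedVariables false

/-!
# S3589: an anisotropic binary form `z₁² + z₁ z₂ + ζ z₂²`
-/

namespace Cfsg.Agent.Helper94.Sg

universe u
variable {F : Type u} [Field F] [Fintype F]

theorem exists_aniso :
    ∃ ζ : F, ∀ z₁ z₂ : F, z₁ ^ 2 + 1 * z₁ * z₂ + ζ * z₂ ^ 2 = 0 → z₁ = 0 ∧ z₂ = 0 := by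
  obtain ⟨ζ, hζ, -⟩ := Cfsg.Agent.Helper44.QType.exists_irred_param (F := F)
  refine ⟨ζ, fun z₁ z₂ h => ?_⟩
  by_cases h2 : z₂ = 0
  · subst h2
    simp at h
    exact ⟨h, rfl⟩
  · exfalso
    apply hζ (z₁ / z₂)
    field_simp
    linear_combination h

end Cfsg.Agent.Helper94.Sg
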