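import Mathlib
import Cfsg.Agent.Helper94.Sg.Defs
import Cfsg.Agent.Helper44.OrthRealizeD

set_option autoImplicit false
set_option linter.unusedSectionVars false
set_option linter.unusedVariables false

/-!
# (SUM) orthogonal sums: orders `n₁`, `n₂` in types `(m₁, ε₁)`, `(m₂, ε₂)` give order `lcm n₁ n₂` in type `(m₁ + m₂, ε₁ ε₂)`

`Real` is in `Sg/Defs.lean`.  Unpack both; form `Cfsg.Agent.Helper44.orthSumForm Q₁ Q₂ : QuadraticForm F (ι₁ ⊕ ι₂ → F)` (helper44 `OrthSumForm.lean`;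
`orthSumForm_coe : ⇑(orthSumForm Q₁ Q₂) = orthSum ⇑Q₁ ⇑Q₂ := rfl`).  Card, nondegeneracy and `HasType … (m₁ + m₂) (ε₁ * ε₂)`: the first three conjuncts of
`Cfsg.Agent.Helper44.QType.sum_step` (`OrthRealizeD.lean`; take `r := 0`, `x := 1`), or directly `Fintype.card_sum`, `nondegenerate_orthSumForm` + `nondeg_iff`
(`OrthRealizeC.lean`), `HasType.orthSum` (`QTypeProd.lean`).  The isometry: `Cfsg.Agent.Helper44.blockDiagIso ⇑Q₁ ⇑Q₂ (g₁, g₂)` (`OrthSum.lean`), a `MonoidHom`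
from the product; it is injective (`blockDiagIso_coe` + `Matrix.fromBlocks_inj`, `Units.ext`, `Subtype.ext`), so `orderOf_injective` and `Prod.orderOf`
(`orderOf (g₁, g₂) = (orderOf g₁).lcm (orderOf g₂)`) give the order.
-/

namespace Cfsg.Agent.Helper94.Sg

universe u
variable {F : Type u} [Field F] [Fintype F]

open Cfsg.Agent.Helper44 in
/-- the block diagonal embedding is injective -/
theorem SUM_blockDiagIso_injective {ι₁ ι₂ : Type} [Fintype ι₁] [DecidableEq ι₁] [Fintype ι₂] [DecidableEq ι₂]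
    (Q₁ : (ι₁ → F) → F) (Q₂ : (ι₂ → F) → F) : Function.Injective (blockDiagIso Q₁ Q₂) := by
  rintro ⟨a1, a2⟩ ⟨b1, b2⟩ hab
  have h := congrArg (fun g : ↥(Cfsg.isometryGroup F (orthSum Q₁ Q₂)) =>
    ((g : GL (ι₁ ⊕ ι₂) F) : Matrix (ι₁ ⊕ ι₂) (ι₁ ⊕ ι₂) F)) hab
  simp only [blockDiagIso_coe] at h
  obtain ⟨h1, -, -, h2⟩ := Matrix.fromBlocks_inj.1 h
  exact Prod.ext (Subtype.ext (Units.ext h1)) (Subtype.ext (Units.ext h2))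

open Cfsg.Agent.Helper44 in
theorem real_sum {m₁ m₂ n₁ n₂ : ℕ} {ε₁ ε₂ : ℤ} (h₁ : Real F m₁ ε₁ n₁) (h₂ : Real F m₂ ε₂ n₂) :
    Real F (m₁ + m₂) (ε₁ * ε₂) (Nat.lcm n₁ n₂) := by
  obtain ⟨ι₁, i1, d1, Q₁, hc₁, hnd₁, ht₁, g₁, hg₁⟩ := h₁
  obtain ⟨ι₂, i2, d2, Q₂, hc₂, hnd₂, ht₂, g₂, hg₂⟩ := h₂
  obtain ⟨hc, hnd, ht, -, -⟩ :=
    Cfsg.Agent.Helper44.QType.sum_step Q₁ Q₂ hc₁ hc₂ hnd₁ hnd₂ ht₁ ht₂ 0 1 (pow_zero _)
  refine ⟨ι₁ ⊕ ι₂, inferInstance, inferInstance, orthSumForm Q₁ Q₂, hc, hnd, ht, ?_⟩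
  refine ⟨blockDiagIso ⇑Q₁ ⇑Q₂ (g₁, g₂), ?_⟩
  have h := orderOf_injective (blockDiagIso ⇑Q₁ ⇑Q₂) (SUM_blockDiagIso_injective ⇑Q₁ ⇑Q₂) (g₁, g₂)
  rw [Prod.orderOf, hg₁, hg₂] at h
  exact h

end Cfsg.Agent.Helper94.Sg
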