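import Mathlib
import Cfsg.Agent.Helper94.Sg.Defs
import Cfsg.Agent.Helper44.OrthRealizeD
import Cfsg.Agent.Helper94.Eo.P_GRAM

set_option autoImplicit false
set_option linter.unusedSectionVars false
set_option linter.unusedVariables false

/-!
# (FIN) a minus-type space of dimension 8 is the standard one

`Real` is in `Sg/Defs.lean`.  Unpack `h` (`ι`, `Q`, card `= 2 * 4`, nondegenerate, `HasType ⇑Q 4 (-1)`, `g` of order `n`).  The target form is
`Cfsg.Agent.Helper44.minusForm 3 F a b` (`StdForms.lean`, `minusForm_coe : ⇑(minusForm k F a c) = quadFormMinus k F a c := rfl`):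
`hasType_minus 3 a b hab : HasType (quadFormMinus 3 F a b) (3 + 1) (-1)` (`QTypeCount.lean`), nondegenerate by `nondegenerate_minusForm 3 a b hD` (`StdNondeg.lean`) +
`nondeg_iff` (`OrthRealizeC.lean`), where `hD : a ^ 2 - 4 * b ≠ 0` follows from `Eo.binary_disc_ne_zero a b hab : 2 * (2 * b) - a * a ≠ 0` (`Eo/P_GRAM.lean`) by `ring_nf`/`linear_combination`.
`exists_isometry_of_hasType` (`QTypeAniso.lean`; finranks via `Module.finrank_fintype_fun_eq_card`/`finrank_minus_idx`) gives `C : (ι → F) ≃ₗ[F] (_ → F)` with `Q₂ (C v) = Q v`;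
`isoTransport ⇑Q (quadFormMinus 3 F a b) C hC g` (`IsoTransport.lean`) with `isoTransport_injective` (`OrthRealizeC.lean`) and `orderOf_injective`.
`exists_of_same_type` in `OrthRealizeD.lean` is a model of exactly this transport.
-/

namespace Cfsg.Agent.Helper94.Sg

universe u
variable {F : Type u} [Field F] [Fintype F]

theorem real_fin [CharP F 2] (a b : F)
    (hab : ∀ z₁ z₂ : F, z₁ ^ 2 + a * z₁ * z₂ + b * z₂ ^ 2 = 0 → z₁ = 0 ∧ z₂ = 0) {n : ℕ}
    (h : Real F 4 (-1) n) :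
    ∃ g : ↥(Cfsg.isometryGroup F (Cfsg.quadFormMinus 3 F a b)), orderOf g = n := by
  obtain ⟨ι, hFi, hDe, Q, hcard, hnd, hT, g, hg⟩ := h
  have hT' : Cfsg.Agent.Helper44.QType.HasType (⇑(Cfsg.Agent.Helper44.minusForm 3 F a b)) 4 (-1) := by
    rw [Cfsg.Agent.Helper44.minusForm_coe]
    exact Cfsg.Agent.Helper44.QType.hasType_minus 3 a b hab
  have hD : a ^ 2 - 4 * b ≠ 0 := by
    have h1 := Cfsg.Agent.Helper94.Eo.binary_disc_ne_zero a b hab
    intro h2
    apply h1
    linear_combination -h2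
  have hnd' : ∀ x, (∀ y, QuadraticMap.polar (Cfsg.Agent.Helper44.minusForm 3 F a b) x y = 0) →
      x = 0 :=
    (Cfsg.Agent.Helper44.QType.nondeg_iff _).mp (Cfsg.Agent.Helper44.nondegenerate_minusForm 3 a b hD)
  have hV : Module.finrank F (ι → F) = 2 * 4 := by
    rw [Module.finrank_fintype_fun_eq_card, hcard]
  have hV' : Module.finrank F ((Fin 3 ⊕ Fin 3) ⊕ Fin 2 → F) = 2 * 4 := by
    rw [Cfsg.Agent.Helper44.QType.finrank_minus_idx]
  obtain ⟨C, hC⟩ := Cfsg.Agent.Helper44.QType.exists_isometry_of_hasType Q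
    (Cfsg.Agent.Helper44.minusForm 3 F a b) hV hV' hnd hnd' hT hT'
  have key : ∃ g' : ↥(Cfsg.isometryGroup F ⇑(Cfsg.Agent.Helper44.minusForm 3 F a b)),
      orderOf g' = n := by
    refine ⟨Cfsg.Agent.Helper44.isoTransport (⇑Q) (⇑(Cfsg.Agent.Helper44.minusForm 3 F a b)) C hC g,
      ?_⟩
    rw [orderOf_injective _ (Cfsg.Agent.Helper44.QType.isoTransport_injective (⇑Q)
      (⇑(Cfsg.Agent.Helper44.minusForm 3 F a b)) C hC) g, hg]
  exact key

end Cfsg.Agent.Helper94.Sg
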