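import Mathlib
import Cfsg.Agent.Helper94.Sg.Defs
import Cfsg.Agent.Helper44.OrthRealizeC

set_option autoImplicit false
set_option linter.unusedSectionVars false
set_option linter.unusedVariables false

/-!
# (ABS) from an abstract quadratic space with a linear isometry to coordinates

`Real`, `RealAbs` are in `Sg/Defs.lean`.  Unpack (`V`, `Q`, `finrank = 2 m`, nondegenerate, `HasType ⇑Q m ε`, `T : V ≃ₗ[F] V` isometry of order `n`).
`ι := Fin (2 * m)`, `b : Basis ι F V := (Module.finBasis F V).reindex (finCongr hfr)`, `C := b.equivFun : V ≃ₗ[F] (ι → F)`, `Q' := Q.comp C.symm` (`QuadraticMap.comp`), so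
`Q' (C v) = Q v`; polar of `Q'` is the polar of `Q` at `C.symm _` (`QuadraticMap.polar_comp`), nondegeneracy transports; `HasType.congr hT C.toEquiv` (`QTypeCount.lean`).
The matrix: `A := LinearMap.toMatrix' (C ∘ T ∘ C.symm)` with inverse from `T.symm`; as `GL ι F` via `Matrix.GeneralLinearGroup.mk''`/`⟨A, A', _, _⟩` or
`Matrix.GeneralLinearGroup.toLin`/`LinearMap.GeneralLinearGroup`; membership in `Cfsg.isometryGroup` via `Cfsg.Agent.Helper44.mem_isometryGroup_iff` (`OrthSum.lean`):
`Q' (A *ᵥ v) = Q' v` (`LinearMap.toMatrix'_mulVec`).  Order: `g ^ j = 1 ↔ T ^ j = 1` (the map `T ↦ matrix` is an injective monoid hom; `orderOf_injective` or `orderOf_eq_orderOf_iff`).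
-/

namespace Cfsg.Agent.Helper94.Sg

universe u
variable {F : Type u} [Field F] [Fintype F]

/-- conjugation by a coordinate isomorphism, as a monoid hom into matrices -/
noncomputable def ABS_conjMat {ι : Type} [Fintype ι] [DecidableEq ι] {V : Type} [AddCommGroup V] [Module F V]
    (C : V ≃ₗ[F] (ι → F)) : (V ≃ₗ[F] V) →* Matrix ι ι F where
  toFun S := LinearMap.toMatrix' (C.toLinearMap ∘ₗ S.toLinearMap ∘ₗ C.symm.toLinearMap)
  map_one' := by
    have : C.toLinearMap ∘ₗ (1 : V ≃ₗ[F] V).toLinearMap ∘ₗ C.symm.toLinearMap = LinearMap.id := by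
      ext v
      simp
    rw [this, LinearMap.toMatrix'_id]
  map_mul' S S' := by
    have : C.toLinearMap ∘ₗ (S * S').toLinearMap ∘ₗ C.symm.toLinearMap =
        (C.toLinearMap ∘ₗ S.toLinearMap ∘ₗ C.symm.toLinearMap) ∘ₗ
          (C.toLinearMap ∘ₗ S'.toLinearMap ∘ₗ C.symm.toLinearMap) := by
      ext v
      simp
    rw [this, LinearMap.toMatrix'_comp]

open Matrix in
theorem ABS_conjMat_mulVec {ι : Type} [Fintype ι] [DecidableEq ι] {V : Type} [AddCommGroup V] [Module F V]
    (C : V ≃ₗ[F] (ι → F)) (S : V ≃ₗ[F] V) (v : ι → F) :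
    ABS_conjMat C S *ᵥ v = C (S (C.symm v)) := by
  show LinearMap.toMatrix' (C.toLinearMap ∘ₗ S.toLinearMap ∘ₗ C.symm.toLinearMap) *ᵥ v = _
  rw [LinearMap.toMatrix'_mulVec]
  rfl

open Matrix in
theorem ABS_conjMat_injective {ι : Type} [Fintype ι] [DecidableEq ι] {V : Type} [AddCommGroup V] [Module F V]
    (C : V ≃ₗ[F] (ι → F)) : Function.Injective (ABS_conjMat C) := by
  intro S S' h
  ext v
  have h1 := congrArg (fun M : Matrix ι ι F => M *ᵥ (C v)) h
  simp only [ABS_conjMat_mulVec, LinearEquiv.symm_apply_apply] at h1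
  exact C.injective h1

theorem real_of_realAbs {m n : ℕ} {ε : ℤ} (h : RealAbs F m ε n) : Real F m ε n := by
  obtain ⟨V, iA, iM, iF, Q, hfr, hnd, hT, T, hTQ, hTn⟩ := h
  have hcard : Module.finrank F V = Fintype.card (Fin (2 * m)) := by rw [hfr, Fintype.card_fin]
  let b : Module.Basis (Fin (2 * m)) F V := (Module.finBasis F V).reindex (finCongr hfr)
  let C : V ≃ₗ[F] (Fin (2 * m) → F) := b.equivFun
  let Q' : QuadraticForm F (Fin (2 * m) → F) := Q.comp C.symm.toLinearMap
  have hQ' : ∀ x, Q' x = Q (C.symm x) := fun x => rfl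
  have hpol : ∀ x y, QuadraticMap.polar Q' x y = QuadraticMap.polar Q (C.symm x) (C.symm y) := by
    intro x y
    simp only [QuadraticMap.polar, hQ', map_add]
  refine ⟨Fin (2 * m), inferInstance, inferInstance, Q', Fintype.card_fin _, ?_, ?_, ?_⟩
  · intro x hx
    have h0 : C.symm x = 0 := by
      apply hnd
      intro v
      have := hx (C v)
      rw [hpol, LinearEquiv.symm_apply_apply] at this
      exact this
    have := congrArg C h0
    rwa [LinearEquiv.apply_symm_apply, map_zero] at this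
  · exact hT.congr C.toEquiv (fun v => by
      show Q' (C v) = Q v
      rw [hQ', LinearEquiv.symm_apply_apply])
  · have hmem : (ABS_conjMat C).toHomUnits T ∈ Cfsg.isometryGroup F ⇑Q' := by
      rw [Cfsg.Agent.Helper44.mem_isometryGroup_iff]
      intro v
      rw [MonoidHom.coe_toHomUnits, ABS_conjMat_mulVec, hQ', hQ', LinearEquiv.symm_apply_apply, hTQ]
    refine ⟨⟨(ABS_conjMat C).toHomUnits T, hmem⟩, ?_⟩
    have hinj : Function.Injective (ABS_conjMat C).toHomUnits := by
      intro S S' h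
      apply ABS_conjMat_injective C
      have := congrArg (fun u : (Matrix (Fin (2 * m)) (Fin (2 * m)) F)ˣ => Units.val u) h
      simpa only [MonoidHom.coe_toHomUnits] using this
    rw [← Subgroup.orderOf_coe, orderOf_injective _ hinj T, hTn]

end Cfsg.Agent.Helper94.Sg
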