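import Mathlib
import Cfsg.Agent.Helper94.Sg.Defs
import Cfsg.Agent.Helper44.OrthRealizeE

set_option autoImplicit false
set_option linter.unusedSectionVars false
set_option linter.unusedVariables false

/-!
# (MQ) the quadratic form `Q x = Tr_{K/F}(c · x · σ x)` is of minus type and `θ` acts on it by isometries

`RealAbs` is in `Sg/Defs.lean` (`V := K`).  `B' : LinearMap.BilinForm F K`, `B' x y = Algebra.trace F K (c * x * σ y)` (`σ` is `F`-linear), `Q := B'.toQuadraticMap` (`Q x = B' x x`).
* polar: `polar Q x y = B' x y + B' y x`; `Algebra.trace F K (σ z) = Algebra.trace F K z` (`Algebra.trace_eq_of_algEquiv`) with `z = c * y * σ x` and `hσ` give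
  `B' y x = trace (σ c * x * σ y)`, so `polar Q x y = trace ((c + σ c) * x * σ y) = trace (x * σ y)`.
* nondegenerate: `σ` is surjective, so `∀ z, trace (x * z) = 0`, hence `x = 0` (`Algebra.traceForm_nondegenerate F K`; the separability instance comes from finiteness/perfectness).
* `T := ` multiplication by `θ` (`LinearEquiv` built from the unit, e.g. `LinearEquiv.ofLinear (LinearMap.mulLeft F θ) (LinearMap.mulLeft F θ⁻¹)`); `Q (θ x) = trace (c * (θ * σ θ) * (x * σ x)) = Q x`;
  `T ^ j = 1 ↔ θ ^ j = 1` (evaluate at `1`), so `orderOf T = orderOf θ`.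
* type: `exists_hasType` (`QTypeClassify.lean`) gives `ε = 1 ∨ ε = -1` with `HasType ⇑Q k ε`.  `q ^ k + 1 ≥ 3` is odd (`q` even since `CharP F 2`: `FiniteField.even_card_of_char_two` or
  `2 ∣ card F` from `CharP.cast_eq_zero`); take a prime `r ∣ q ^ k + 1` (`Nat.exists_prime_and_dvd`), `r ≠ 2`, `¬ r ∣ q` (`r ∣ q` and `r ∣ q ^ k + 1` give `r ∣ 1`).
  `θ' := θ ^ ((q ^ k + 1) / r)` has order `r`; `pow_eq_of_fpf` (`QTypeFpf.lean`) with `T v := θ' * v` (`T^[r] v = θ' ^ r * v = v`; `T v = v → (θ' - 1) * v = 0 → v = 0`) gives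
  `(q : ZMod r) ^ k = ε`; and `(q : ZMod r) ^ k = -1` from `r ∣ q ^ k + 1`; `sign_eq_of_cast_eq` (`OrthRealizeE.lean`) gives `ε = -1`.
-/

namespace Cfsg.Agent.Helper94.Sg

universe u
variable {F : Type u} [Field F] [Fintype F]

open QuadraticMap Cfsg.Agent.Helper44.QType

/-- (MQ aux) the bilinear form `B' x y = Tr (c x σ y)` -/
noncomputable def MQ_bil {K : Type} [Field K] [Algebra F K] (σ : K ≃ₐ[F] K) (c : K) :
    LinearMap.BilinForm F K :=
  LinearMap.mk₂ F (fun x y => Algebra.trace F K (c * x * σ y))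
    (fun x x' y => by simp only [mul_add, add_mul, map_add])
    (fun a x y => by
      rw [mul_smul_comm, smul_mul_assoc, map_smul])
    (fun x y y' => by simp only [map_add, mul_add])
    (fun a x y => by
      rw [map_smul, mul_smul_comm, map_smul])

theorem MQ_bil_apply {K : Type} [Field K] [Algebra F K] (σ : K ≃ₐ[F] K) (c : K) (x y : K) :
    MQ_bil σ c x y = Algebra.trace F K (c * x * σ y) := rfl

theorem realAbs_minus [CharP F 2] {K : Type} [Field K] [Algebra F K] [Finite K] (k : ℕ)
    (hk : 1 ≤ k) (hfr : Module.finrank F K = 2 * k) (σ : K ≃ₐ[F] K) (hσ : ∀ x, σ (σ x) = x)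
    (c : K) (hc : c + σ c = 1) (θ : Kˣ) (hθ : (θ : K) * σ (θ : K) = 1)
    (hord : orderOf θ = Fintype.card F ^ k + 1) :
    RealAbs F k (-1) (Fintype.card F ^ k + 1) := by
  classical
  have : FiniteDimensional F K := Module.Finite.of_finite
  obtain ⟨q, hq⟩ : ∃ q, q = Fintype.card F := ⟨_, rfl⟩
  rw [← hq] at hord ⊢
  have hqN : Nat.card F = q := by rw [hq]; exact Nat.card_eq_fintype_card
  have hq2 : 2 ≤ q := by rw [hq]; exact Fintype.one_lt_card
  have hqeven : 2 ∣ q := by
    rw [hq]
    exact Nat.dvd_of_mod_eq_zero (FiniteField.even_card_of_char_two (ringChar.eq F 2))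
  let Q : QuadraticForm F K := (MQ_bil σ c).toQuadraticMap
  have hQ : ∀ x, Q x = Algebra.trace F K (c * x * σ x) := by
    intro x
    show (MQ_bil σ c).toQuadraticMap x = _
    rw [LinearMap.BilinMap.toQuadraticMap_apply, MQ_bil_apply]
  have hpolar : ∀ x y, polar Q x y = Algebra.trace F K (x * σ y) := by
    intro x y
    show polar ((MQ_bil σ c).toQuadraticMap) x y = _
    rw [LinearMap.BilinMap.polar_toQuadraticMap, MQ_bil_apply, MQ_bil_apply]
    have h1 : Algebra.trace F K (c * y * σ x) = Algebra.trace F K (σ c * x * σ y) := by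
      have e : σ (c * y * σ x) = σ c * x * σ y := by
        rw [map_mul σ, map_mul σ, hσ]; ring
      rw [← Algebra.trace_eq_of_algEquiv σ (c * y * σ x), e]
    rw [h1, ← map_add]
    congr 1
    rw [← add_mul, ← add_mul, hc, one_mul]
  have hnd : ∀ x : K, (∀ y, polar Q x y = 0) → x = 0 := by
    intro x hx
    apply (traceForm_nondegenerate F K).1 x
    intro z
    rw [Algebra.traceForm_apply]
    have := hx (σ z)
    rw [hpolar, hσ] at this
    exact this
  -- isometries: multiplication by a norm-one element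
  have hiso : ∀ u : K, u * σ u = 1 → ∀ v, Q (u * v) = Q v := by
    intro u hu v
    rw [hQ, hQ, map_mul σ]
    congr 1
    calc c * (u * v) * (σ u * σ v) = (u * σ u) * (c * v * σ v) := by ring
      _ = c * v * σ v := by rw [hu, one_mul]
  -- the type
  obtain ⟨ε, hε, hT⟩ := exists_hasType Q hfr hnd
  have hεm : ε = -1 := by
    -- a prime divisor of `q ^ k + 1`
    have hN1 : q ^ k + 1 ≠ 1 := by
      have : 0 < q ^ k := pow_pos (by omega) k
      omega
    obtain ⟨r, hr, hrN⟩ := Nat.exists_prime_and_dvd hN1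
    have : Fact r.Prime := ⟨hr⟩
    have hqk : 2 ∣ q ^ k := dvd_pow hqeven (by omega)
    have hr2 : r ≠ 2 := by
      rintro rfl
      have : 2 ∣ 1 := (Nat.dvd_add_right hqk).mp hrN
      omega
    have hrq : ¬ r ∣ Nat.card F := by
      rw [hqN]
      intro h
      have h1 : r ∣ q ^ k := dvd_pow h (by omega)
      have : r ∣ 1 := (Nat.dvd_add_right h1).mp hrN
      exact hr.one_lt.ne' (Nat.dvd_one.mp this)
    obtain ⟨j, hj⟩ := hrN
    have hj0 : j ≠ 0 := by
      rintro rfl
      rw [mul_zero] at hj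
      omega
    -- θ' of order r
    have hordθ' : orderOf (θ ^ j) = r := by
      rw [orderOf_pow_of_dvd hj0 (by rw [hord, hj]; exact dvd_mul_left _ _), hord, hj,
        Nat.mul_div_cancel _ (Nat.pos_of_ne_zero hj0)]
    have hθ'1 : ((θ ^ j : Kˣ) : K) * σ ((θ ^ j : Kˣ) : K) = 1 := by
      rw [Units.val_pow_eq_pow_val, map_pow, ← mul_pow, hθ, one_pow]
    have hθ'ne : ((θ ^ j : Kˣ) : K) ≠ 1 := by
      intro h
      have : θ ^ j = 1 := Units.ext h
      rw [← orderOf_eq_one_iff, hordθ'] at this
      exact hr.one_lt.ne' this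
    have hpow := pow_eq_of_fpf Q hfr hnd hT r hrq (fun v => ((θ ^ j : Kˣ) : K) * v)
      (fun v => hiso _ hθ'1 v)
      (fun v => by
        rw [mul_left_iterate, ← Units.val_pow_eq_pow_val, ← hordθ', pow_orderOf_eq_one,
          Units.val_one]
        exact one_mul v)
      (fun v hv => by
        have : (((θ ^ j : Kˣ) : K) - 1) * v = 0 := by rw [sub_mul, hv, one_mul, sub_self]
        rcases mul_eq_zero.mp this with h | h
        · exact absurd (sub_eq_zero.mp h) hθ'ne
        · exact h)
    rw [hqN] at hpow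
    have hm1 : ((q : ℕ) : ZMod r) ^ k = (((-1 : ℤ)) : ZMod r) := by
      have : ((q ^ k + 1 : ℕ) : ZMod r) = 0 := by
        rw [ZMod.natCast_eq_zero_iff, hj]; exact dvd_mul_right _ _
      push_cast at this ⊢
      exact eq_neg_of_add_eq_zero_left this
    exact sign_eq_of_cast_eq hr hr2 hε (Or.inr rfl) (hpow.symm.trans hm1)
  rw [hεm] at hT
  -- the isometry
  let T : K ≃ₗ[F] K :=
    { toFun := fun x => (θ : K) * x
      map_add' := fun x y => mul_add _ _ _
      map_smul' := fun a x => by simp only [mul_smul_comm, RingHom.id_apply]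
      invFun := fun x => ((θ⁻¹ : Kˣ) : K) * x
      left_inv := fun x => by simp
      right_inv := fun x => by simp }
  have hTapp : ∀ v, T v = (θ : K) * v := fun v => rfl
  have hTpow : ∀ (n : ℕ) (v : K), (T ^ n) v = ((θ ^ n : Kˣ) : K) * v := by
    intro n
    induction n with
    | zero => intro v; simp
    | succ n ih =>
      intro v
      rw [pow_succ, LinearEquiv.mul_apply, ih, hTapp, pow_succ, Units.val_mul, mul_assoc]
  have hordT : orderOf T = orderOf θ := by
    rw [orderOf_eq_orderOf_iff]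
    intro n
    constructor
    · intro h
      apply Units.ext
      have := hTpow n 1
      rw [h, mul_one] at this
      rw [← this]
      simp
    · intro h
      apply LinearEquiv.ext
      intro v
      rw [hTpow, h]
      simp
  exact ⟨K, inferInstance, inferInstance, inferInstance, Q, hfr, hnd, hT, T,
    fun v => hiso _ hθ v, by rw [hordT, hord]⟩

end Cfsg.Agent.Helper94.Sg
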