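import Mathlib
import Cfsg.Agent.Helper94.Sg.Defs

set_option autoImplicit false
set_option linter.unusedSectionVars false
set_option linter.unusedVariables false

/-!
# (ARX) arithmetic for the existence half: each of the twelve numbers divides the `lcm` produced by the orthogonal sum (`q` even)

Pure `ℕ` arithmetic, `q ≥ 2` even.  In each case the pieces are pairwise coprime, so the `lcm` is the product (`Nat.Coprime.lcm_eq_mul`), or simply show that each coprime factor of the left side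
divides the `lcm` (`Nat.Coprime.mul_dvd_of_dvd_of_dvd`, `Nat.dvd_lcm_left/right`, `dvd_trans`).
Coprimality facts for even `q`: `q ^ j ± 1` is odd (so coprime to `2, 4, 8`: `Nat.Coprime.pow_right`, `Nat.coprime_two_right`/`Nat.Odd.coprime_two_right`);
`gcd (q + 1) (q - 1) ∣ 2`, `gcd (q ^ 2 + 1) (q ^ 2 - 1) ∣ 2`, `gcd (q ^ 2 + 1) (q ± 1) ∣ 2` (`q ^ 2 + 1 = (q - 1) * (q + 1) + 2`), `gcd (q ^ 3 - 1) (q + 1) ∣ 2` (`q ^ 3 - 1 = (q + 1) * (q ^ 2 - q + 1) - 2`),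
`gcd (q ^ 3 + 1) (q - 1) ∣ 2`; all these numbers are odd, hence the gcds are `1`.  Writing `q = 2 * t` (or `obtain ⟨t, rfl⟩ := he`) and moving to `ℤ` (`zify`, `Int.gcd`, `Int.isCoprime_iff_gcd_eq_one`, explicit Bézout
identities with `IsCoprime`/`Nat.Coprime` via `Nat.isCoprime_iff_coprime`) works; truncated subtractions are harmless because `q ≥ 2`.

(sorries filled by helper15: `q = 2 s + 2`, explicit Bézout certificates over `ℤ`.)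
-/

namespace Cfsg.Agent.Helper94.Sg

/-- a Bézout identity over `ℤ` makes the `lcm` the product -/
theorem arx_mul_dvd_lcm (a b : ℕ) (u v : ℤ) (h : u * (a : ℤ) + v * (b : ℤ) = 1) :
    a * b ∣ Nat.lcm a b := by
  have hc : Nat.Coprime a b := Nat.isCoprime_iff_coprime.mp ⟨u, v, h⟩
  rw [hc.lcm_eq_mul]

theorem arx_coprime (a b : ℕ) (u v : ℤ) (h : u * (a : ℤ) + v * (b : ℤ) = 1) :
    Nat.Coprime a b := Nat.isCoprime_iff_coprime.mp ⟨u, v, h⟩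

/-- `q = 2 s + 2` -/
theorem arx_param (q : ℕ) (hq : 2 ≤ q) (he : Even q) : ∃ s : ℕ, q = 2 * s + 2 := by
  obtain ⟨t, rfl⟩ := he
  exact ⟨t - 1, by omega⟩

theorem arx_sub1 (s : ℕ) : (2 * s + 2) ^ 1 - 1 = 2 * s + 1 := by
  apply Nat.sub_eq_of_eq_add; ring

theorem arx_sub1' (s : ℕ) : (2 * s + 2) - 1 = 2 * s + 1 := by
  omega

theorem arx_sub2 (s : ℕ) : (2 * s + 2) ^ 2 - 1 = 4 * s ^ 2 + 8 * s + 3 := by
  apply Nat.sub_eq_of_eq_add; ring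

theorem arx_sub3 (s : ℕ) : (2 * s + 2) ^ 3 - 1 = 8 * s ^ 3 + 24 * s ^ 2 + 24 * s + 7 := by
  apply Nat.sub_eq_of_eq_add; ring

theorem arx_sub4 (s : ℕ) :
    (2 * s + 2) ^ 4 - 1 = 16 * s ^ 4 + 64 * s ^ 3 + 96 * s ^ 2 + 64 * s + 15 := by
  apply Nat.sub_eq_of_eq_add; ring

theorem arx_odd_two (x : ℕ) (h : Odd x) : Nat.Coprime x 2 := Nat.coprime_two_right.mpr h

theorem arx_odd_four (x : ℕ) (h : Odd x) : Nat.Coprime x 4 := by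
  have : Nat.Coprime x (2 ^ 2) := Nat.Coprime.pow_right 2 (Nat.coprime_two_right.mpr h)
  simpa using this

theorem arx_odd_eight (x : ℕ) (h : Odd x) : Nat.Coprime x 8 := by
  have : Nat.Coprime x (2 ^ 3) := Nat.Coprime.pow_right 3 (Nat.coprime_two_right.mpr h)
  simpa using this

theorem arx2 (q : ℕ) (hq : 2 ≤ q) (he : Even q) :
    q ^ 4 - 1 ∣ Nat.lcm (q ^ 2 + 1) (q ^ 2 - 1) := by
  obtain ⟨s, rfl⟩ := arx_param q hq he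
  rw [arx_sub4, arx_sub2]
  have h := arx_mul_dvd_lcm ((2 * s + 2) ^ 2 + 1) (4 * s ^ 2 + 8 * s + 3)
    (1 - 2 * ((s : ℤ) + 1) ^ 2) (2 * ((s : ℤ) + 1) ^ 2) (by push_cast; ring)
  have e : 16 * s ^ 4 + 64 * s ^ 3 + 96 * s ^ 2 + 64 * s + 15 =
      ((2 * s + 2) ^ 2 + 1) * (4 * s ^ 2 + 8 * s + 3) := by ring
  rw [e]; exact h

theorem arx3 (q : ℕ) (hq : 2 ≤ q) (he : Even q) :
    (q ^ 3 - 1) * (q + 1) ∣ Nat.lcm (q ^ 3 - 1) (q ^ 1 + 1) := by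
  obtain ⟨s, rfl⟩ := arx_param q hq he
  rw [arx_sub3, pow_one]
  exact arx_mul_dvd_lcm _ _ ((s : ℤ) + 1)
    (1 - 4 * ((s : ℤ) + 1) ^ 3 + 2 * ((s : ℤ) + 1) ^ 2 - ((s : ℤ) + 1)) (by push_cast; ring)

theorem arx4 (q : ℕ) (hq : 2 ≤ q) (he : Even q) :
    (q ^ 3 + 1) * (q - 1) ∣ Nat.lcm (q ^ 3 + 1) (q ^ 1 - 1) := by
  obtain ⟨s, rfl⟩ := arx_param q hq he
  rw [arx_sub1, arx_sub1']
  exact arx_mul_dvd_lcm _ _ ((s : ℤ) + 1)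
    (-(4 * ((s : ℤ) + 1) ^ 3 + 2 * ((s : ℤ) + 1) ^ 2 + ((s : ℤ) + 1) + 1)) (by push_cast; ring)

theorem arx5 (q : ℕ) (hq : 2 ≤ q) (he : Even q) :
    2 * (q ^ 3 + 1) ∣ Nat.lcm (q ^ 3 + 1) 2 := by
  have ho : Odd (q ^ 3 + 1) := Even.add_one (Nat.even_pow.mpr ⟨he, by norm_num⟩)
  rw [(arx_odd_two _ ho).lcm_eq_mul, mul_comm]

theorem arx6 (q : ℕ) (hq : 2 ≤ q) (he : Even q) :
    2 * (q ^ 3 - 1) ∣ Nat.lcm (q ^ 3 - 1) 2 := by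
  obtain ⟨s, rfl⟩ := arx_param q hq he
  rw [arx_sub3]
  have ho : Odd (8 * s ^ 3 + 24 * s ^ 2 + 24 * s + 7) :=
    ⟨4 * s ^ 3 + 12 * s ^ 2 + 12 * s + 3, by ring⟩
  rw [(arx_odd_two _ ho).lcm_eq_mul, mul_comm]

theorem arx7 (q : ℕ) (hq : 2 ≤ q) (he : Even q) :
    2 * ((q ^ 2 + 1) * (q + 1)) ∣ Nat.lcm (Nat.lcm (q ^ 2 + 1) (q ^ 1 + 1)) 2 := by
  obtain ⟨s, rfl⟩ := arx_param q hq he
  rw [pow_one]
  have hc : Nat.Coprime ((2 * s + 2) ^ 2 + 1) (2 * s + 2 + 1) :=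
    arx_coprime _ _ (-((s : ℤ) + 1)) (2 * ((s : ℤ) + 1) ^ 2 - ((s : ℤ) + 1) + 1)
      (by push_cast; ring)
  rw [hc.lcm_eq_mul]
  have ho : Odd (((2 * s + 2) ^ 2 + 1) * (2 * s + 2 + 1)) :=
    ⟨(2 * (s + 1) ^ 2) * (2 * s + 3) + (s + 1), by ring⟩
  rw [(arx_odd_two _ ho).lcm_eq_mul, mul_comm]

theorem arx8 (q : ℕ) (hq : 2 ≤ q) (he : Even q) :
    2 * ((q ^ 2 + 1) * (q - 1)) ∣ Nat.lcm (Nat.lcm (q ^ 2 + 1) (q ^ 1 - 1)) 2 := by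
  obtain ⟨s, rfl⟩ := arx_param q hq he
  rw [arx_sub1, arx_sub1']
  have hc : Nat.Coprime ((2 * s + 2) ^ 2 + 1) (2 * s + 1) :=
    arx_coprime _ _ ((s : ℤ) + 1) (-(2 * ((s : ℤ) + 1) ^ 2 + ((s : ℤ) + 1) + 1))
      (by push_cast; ring)
  rw [hc.lcm_eq_mul]
  have ho : Odd (((2 * s + 2) ^ 2 + 1) * (2 * s + 1)) :=
    ⟨(2 * (s + 1) ^ 2) * (2 * s + 1) + s, by ring⟩
  rw [(arx_odd_two _ ho).lcm_eq_mul, mul_comm]

theorem arx9 (q : ℕ) (hq : 2 ≤ q) (he : Even q) :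
    4 * (q ^ 2 + 1) ∣ Nat.lcm (q ^ 2 + 1) 4 := by
  have ho : Odd (q ^ 2 + 1) := Even.add_one (Nat.even_pow.mpr ⟨he, by norm_num⟩)
  rw [(arx_odd_four _ ho).lcm_eq_mul, mul_comm]

theorem arx10 (q : ℕ) (hq : 2 ≤ q) (he : Even q) :
    4 * (q ^ 2 - 1) ∣ Nat.lcm (Nat.lcm (q ^ 1 + 1) (q ^ 1 - 1)) 4 := by
  obtain ⟨s, rfl⟩ := arx_param q hq he
  rw [arx_sub2, arx_sub1, pow_one]
  have hc : Nat.Coprime (2 * s + 2 + 1) (2 * s + 1) :=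
    arx_coprime _ _ (1 - ((s : ℤ) + 1)) ((s : ℤ) + 1) (by push_cast; ring)
  rw [hc.lcm_eq_mul]
  have ho : Odd ((2 * s + 2 + 1) * (2 * s + 1)) := ⟨2 * s ^ 2 + 4 * s + 1, by ring⟩
  rw [(arx_odd_four _ ho).lcm_eq_mul]
  have e : 4 * (4 * s ^ 2 + 8 * s + 3) = (2 * s + 2 + 1) * (2 * s + 1) * 4 := by ring
  rw [e]

theorem arx11 (q : ℕ) (hq : 2 ≤ q) (he : Even q) :
    8 * (q + 1) ∣ Nat.lcm (q ^ 1 + 1) 8 := by
  rw [pow_one]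
  have ho : Odd (q + 1) := Even.add_one he
  rw [(arx_odd_eight _ ho).lcm_eq_mul, mul_comm]

theorem arx12 (q : ℕ) (hq : 2 ≤ q) (he : Even q) :
    8 * (q - 1) ∣ Nat.lcm (q ^ 1 - 1) 8 := by
  obtain ⟨s, rfl⟩ := arx_param q hq he
  rw [arx_sub1, arx_sub1']
  have ho : Odd (2 * s + 1) := ⟨s, rfl⟩
  rw [(arx_odd_eight _ ho).lcm_eq_mul, mul_comm]

end Cfsg.Agent.Helper94.Sg
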