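import Mathlib
import Cfsg.Agent.Helper94.Sg.Defs
import Cfsg.Agent.Helper94.Sg.Aniso
import Cfsg.Agent.Helper44.OrthRealizeC

set_option autoImplicit false
set_option linter.unusedSectionVars false
set_option linter.unusedVariables false

/-!
# (E8M) an isometry of order 8 of the minus-type space of dimension 6 (characteristic 2)

`Real` is in `Sg/Defs.lean`.  `ζ` from `exists_aniso` (`Sg/Aniso.lean`), `Q := Cfsg.Agent.Helper44.minusForm 2 F 1 ζ` on `(Fin 2 ⊕ Fin 2) ⊕ Fin 2` (card `6 = 2 * 3`),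
`quadFormMinus 2 F 1 ζ v = ∑ i, v (inl (inl i)) * v (inl (inr i)) + (v (inr 0) ^ 2 + 1 * v (inr 0) * v (inr 1) + ζ * v (inr 1) ^ 2)`;
`hasType_minus 2 1 ζ hζ : HasType _ (2 + 1) (-1)`; nondegenerate: `nondegenerate_minusForm 2 1 ζ hD` + `nondeg_iff`, `hD : 1 ^ 2 - 4 * ζ ≠ 0` since `4 = 0`.
Coordinates `(x₁, x₂, y₁, y₂, z₁, z₂)` (`xᵢ = v (inl (inl i))`, `yᵢ = v (inl (inr i))`, `zⱼ = v (inr j)`).  The matrix `g` (row `i` = new coordinate `i`), entries `0, 1, ζ`: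
  `x₁' = x₁ + x₂ + ζ y₂ + z₁ + z₂`, `x₂' = x₂ + ζ y₂ + z₁ + z₂`, `y₁' = y₁`, `y₂' = y₁ + y₂`, `z₁' = z₁ + z₂`, `z₂' = y₂ + z₂`
i.e. rows `[1,1,0,ζ,1,1], [0,1,0,ζ,1,1], [0,0,1,0,0,0], [0,0,1,1,0,0], [0,0,0,0,1,1], [0,0,0,1,0,1]`.  Checked by machine over `F_2[ζ]`: it preserves
`x₁y₁ + x₂y₂ + z₁² + z₁z₂ + ζ z₂²` (uses only `2 = 0`), `g ^ 8 = 1`, and `g ^ 4` is the identity plus the two entries `(x₁, y₂) = 1`, `(x₂, y₁) = 1`, so `g ^ 4 ≠ 1`.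
`g` is unipotent upper-triangular-like with `det = 1`; give the inverse explicitly as `g ^ 7` or prove invertibility from `g ^ 8 = 1`.  `orderOf_eq_prime_pow` (`p = 2`, `n = 2`).
(It is the product of an Eichler transformation for the singular vector `e_{x₁}` with an isometry of order 4 of the 4-space `⟨x₂, y₂, z₁, z₂⟩`.)
-/

namespace Cfsg.Agent.Helper94.Sg

open QuadraticMap Cfsg.Agent.Helper44.QType

universe u
variable {F : Type u} [Field F] [Fintype F]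

/-- a matrix `M` over `F` with `M ^ 2 ^ (n + 1) = 1`, `M ^ 2 ^ n ≠ 1` preserving `Q` gives an isometry of order
`2 ^ (n + 1)` -/
theorem e8m_real_of_matrix {ι : Type} [Fintype ι] [DecidableEq ι]
    (Q : QuadraticForm F (ι → F)) (m : ℕ) (ε : ℤ)
    (hcard : Fintype.card ι = 2 * m) (hnd : ∀ x, (∀ y, polar Q x y = 0) → x = 0)
    (hT : HasType (⇑Q) m ε) (M : Matrix ι ι F) (n : ℕ)
    (hM : ∀ v : ι → F, Q (Matrix.mulVec M v) = Q v)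
    (hMpow : M ^ 2 ^ (n + 1) = 1) (hne : M ^ 2 ^ n ≠ 1) : Real F m ε (2 ^ (n + 1)) := by
  have hpos : 1 ≤ 2 ^ (n + 1) := Nat.one_le_two_pow
  let g : GL ι F := ⟨M, M ^ (2 ^ (n + 1) - 1),
    by rw [← pow_succ', Nat.sub_add_cancel hpos, hMpow],
    by rw [← pow_succ, Nat.sub_add_cancel hpos, hMpow]⟩
  have hg : g ∈ Cfsg.isometryGroup F ⇑Q := (Cfsg.Agent.Helper44.mem_isometryGroup_iff _ g).mpr hM
  refine ⟨ι, inferInstance, inferInstance, Q, hcard, hnd, hT, ⟨g, hg⟩, ?_⟩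
  have hcoe : ∀ k : ℕ, (((⟨g, hg⟩ : ↥(Cfsg.isometryGroup F ⇑Q)) ^ k : ↥(Cfsg.isometryGroup F ⇑Q)) :
      GL ι F).1 = M ^ k := by
    intro k
    rw [Subgroup.coe_pow, Units.val_pow_eq_pow_val]
  have : Fact (Nat.Prime 2) := ⟨Nat.prime_two⟩
  apply orderOf_eq_prime_pow
  · intro h1
    have h2 := hcoe (2 ^ n)
    rw [h1] at h2
    exact hne h2.symm
  · apply Subtype.ext
    apply Units.ext
    rw [hcoe, hMpow]
    rfl

/-- the vector with the six given coordinates `(x₁, x₂, y₁, y₂, z₁, z₂)` -/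
def e8m_vec (a b c d e f : F) : (Fin 2 ⊕ Fin 2) ⊕ Fin 2 → F :=
  Sum.elim (Sum.elim ![a, b] ![c, d]) ![e, f]

/-- the matrix of order `8` -/
def e8m_M (ζ : F) : Matrix ((Fin 2 ⊕ Fin 2) ⊕ Fin 2) ((Fin 2 ⊕ Fin 2) ⊕ Fin 2) F :=
  Matrix.of (Sum.elim
    (Sum.elim ![e8m_vec 1 1 0 ζ 1 1, e8m_vec 0 1 0 ζ 1 1] ![e8m_vec 0 0 1 0 0 0, e8m_vec 0 0 1 1 0 0])
    ![e8m_vec 0 0 0 0 1 1, e8m_vec 0 0 0 1 0 1])

/-- the linear map of `e8m_M` -/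
def e8m_f (ζ : F) (v : (Fin 2 ⊕ Fin 2) ⊕ Fin 2 → F) : (Fin 2 ⊕ Fin 2) ⊕ Fin 2 → F :=
  e8m_vec
    (v (.inl (.inl 0)) + v (.inl (.inl 1)) + ζ * v (.inl (.inr 1)) + v (.inr 0) + v (.inr 1))
    (v (.inl (.inl 1)) + ζ * v (.inl (.inr 1)) + v (.inr 0) + v (.inr 1))
    (v (.inl (.inr 0)))
    (v (.inl (.inr 0)) + v (.inl (.inr 1)))
    (v (.inr 0) + v (.inr 1))
    (v (.inl (.inr 1)) + v (.inr 1))

/-- the square of `e8m_f` -/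
def e8m_f2 (ζ : F) (v : (Fin 2 ⊕ Fin 2) ⊕ Fin 2 → F) : (Fin 2 ⊕ Fin 2) ⊕ Fin 2 → F :=
  e8m_vec
    (v (.inl (.inl 0)) + ζ * v (.inl (.inr 0)) + (1 + ζ) * v (.inl (.inr 1)) + v (.inr 0))
    (v (.inl (.inl 1)) + ζ * v (.inl (.inr 0)) + v (.inl (.inr 1)) + v (.inr 1))
    (v (.inl (.inr 0)))
    (v (.inl (.inr 1)))
    (v (.inl (.inr 1)) + v (.inr 0))
    (v (.inl (.inr 0)) + v (.inr 1))

/-- the fourth power of `e8m_f` -/
def e8m_f4 (v : (Fin 2 ⊕ Fin 2) ⊕ Fin 2 → F) : (Fin 2 ⊕ Fin 2) ⊕ Fin 2 → F :=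
  e8m_vec
    (v (.inl (.inl 0)) + v (.inl (.inr 1)))
    (v (.inl (.inl 1)) + v (.inl (.inr 0)))
    (v (.inl (.inr 0)))
    (v (.inl (.inr 1)))
    (v (.inr 0))
    (v (.inr 1))

theorem e8m_mulVec (ζ : F) (v : (Fin 2 ⊕ Fin 2) ⊕ Fin 2 → F) :
    Matrix.mulVec (e8m_M ζ) v = e8m_f ζ v := by
  funext i
  rcases i with (i | i) | i <;> fin_cases i <;>
    simp [e8m_M, e8m_f, e8m_vec, Matrix.mulVec, dotProduct, Fintype.sum_sum_type, Fin.sum_univ_two]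
    <;> ring

theorem e8m_f_f [CharP F 2] (ζ : F) (v : (Fin 2 ⊕ Fin 2) ⊕ Fin 2 → F) :
    e8m_f ζ (e8m_f ζ v) = e8m_f2 ζ v := by
  have h2 : (2 : F) = 0 := CharTwo.two_eq_zero
  have h4 : (4 : F) = 0 := by
    have : (4 : F) = 2 * 2 := by norm_num
    rw [this, h2, mul_zero]
  funext i
  rcases i with (i | i) | i <;> fin_cases i <;> simp [e8m_f, e8m_f2, e8m_vec] <;>
    (rw [← sub_eq_zero]; ring_nf; try simp [h2, h4])

theorem e8m_f2_f2 [CharP F 2] (ζ : F) (v : (Fin 2 ⊕ Fin 2) ⊕ Fin 2 → F) :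
    e8m_f2 ζ (e8m_f2 ζ v) = e8m_f4 v := by
  have h2 : (2 : F) = 0 := CharTwo.two_eq_zero
  funext i
  rcases i with (i | i) | i <;> fin_cases i <;> simp [e8m_f2, e8m_f4, e8m_vec] <;>
    (rw [← sub_eq_zero]; ring_nf; try simp [h2])

theorem e8m_f4_f4 [CharP F 2] (v : (Fin 2 ⊕ Fin 2) ⊕ Fin 2 → F) :
    e8m_f4 (e8m_f4 v) = v := by
  have h2 : (2 : F) = 0 := CharTwo.two_eq_zero
  funext i
  rcases i with (i | i) | i <;> fin_cases i <;> simp [e8m_f4, e8m_vec] <;>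
    (rw [← sub_eq_zero]; ring_nf; try simp [h2])

theorem e8m_pow2 [CharP F 2] (ζ : F) (v : (Fin 2 ⊕ Fin 2) ⊕ Fin 2 → F) :
    Matrix.mulVec (e8m_M ζ ^ 2) v = e8m_f2 ζ v := by
  rw [_root_.sq, ← Matrix.mulVec_mulVec, e8m_mulVec, e8m_mulVec, e8m_f_f]

theorem e8m_pow4 [CharP F 2] (ζ : F) (v : (Fin 2 ⊕ Fin 2) ⊕ Fin 2 → F) :
    Matrix.mulVec (e8m_M ζ ^ 4) v = e8m_f4 v := by
  rw [show (4 : ℕ) = 2 + 2 from rfl, pow_add, ← Matrix.mulVec_mulVec, e8m_pow2, e8m_pow2, e8m_f2_f2]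

theorem e8m_pow8 [CharP F 2] (ζ : F) : e8m_M ζ ^ 8 = 1 := by
  rw [Matrix.ext_iff_mulVec]
  intro v
  rw [show (8 : ℕ) = 4 + 4 from rfl, pow_add, ← Matrix.mulVec_mulVec, e8m_pow4, e8m_pow4, e8m_f4_f4,
    Matrix.one_mulVec]

theorem e8m_pow4_ne [CharP F 2] (ζ : F) : e8m_M ζ ^ 4 ≠ 1 := by
  intro h
  have h1 := e8m_pow4 ζ (Pi.single (Sum.inl (Sum.inr 0)) 1)
  rw [h, Matrix.one_mulVec] at h1
  have h3 := congrFun h1 (Sum.inl (Sum.inl 1))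
  simp [e8m_f4, e8m_vec] at h3

theorem real_eight_minus [CharP F 2] : Real F 3 (-1) 8 := by
  obtain ⟨ζ, hζ⟩ := exists_aniso (F := F)
  have h2 : (2 : F) = 0 := CharTwo.two_eq_zero
  have h4 : (4 : F) = 0 := by
    have : (4 : F) = 2 * 2 := by norm_num
    rw [this, h2, mul_zero]
  have hD : (1 : F) ^ 2 - 4 * ζ ≠ 0 := by
    rw [h4]
    simp
  have h := e8m_real_of_matrix (F := F) (Cfsg.Agent.Helper44.minusForm 2 F 1 ζ) 3 (-1)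
    (by simp) ((nondeg_iff _).mp (Cfsg.Agent.Helper44.nondegenerate_minusForm 2 1 ζ hD))
    (hasType_minus 2 1 ζ hζ) (e8m_M ζ) 2 ?_ (e8m_pow8 ζ) (e8m_pow4_ne ζ)
  · exact h
  · intro v
    rw [e8m_mulVec, Cfsg.Agent.Helper44.minusForm_coe]
    unfold Cfsg.quadFormMinus
    simp only [Fin.sum_univ_two, e8m_f, e8m_vec, Sum.elim_inl, Sum.elim_inr, Matrix.cons_val_zero,
      Matrix.cons_val_one]
    linear_combination (v (.inl (.inl 1)) * v (.inl (.inr 0))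
      + ζ * v (.inl (.inr 0)) * v (.inl (.inr 1)) + v (.inr 0) * v (.inl (.inr 0))
      + v (.inr 1) * v (.inl (.inr 0)) + v (.inr 0) * v (.inl (.inr 1))
      + v (.inr 1) * v (.inl (.inr 1)) + v (.inr 1) ^ 2 + ζ * v (.inl (.inr 1)) ^ 2
      + v (.inr 0) * v (.inr 1) + ζ * v (.inl (.inr 1)) * v (.inr 1)) * h2

end Cfsg.Agent.Helper94.Sg
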