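import Mathlib
import Cfsg.Agent.Helper94.Sg.Defs
import Cfsg.Agent.Helper94.Sg.Aniso
import Cfsg.Agent.Helper44.OrthRealizeC
import Cfsg.Agent.Helper55.SgZ2

set_option autoImplicit false
set_option linter.unusedSectionVars false
set_option linter.unusedVariables false
set_option maxRecDepth 100000

/-!
# (INV) involutions in the two planes (characteristic 2)

`Real` is in `Sg/Defs.lean`.
* `real_inv_plus`: `Q := Cfsg.Agent.Helper44.plusForm 1 F` on `Fin 1 ⊕ Fin 1` (`quadFormPlus 1 F v = v (inl 0) * v (inr 0)`), card `2 = 2 * 1`, `nondegenerate_plusForm` + `nondeg_iff`,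
  `hasType_plus 1`.  `g` := the swap, the permutation matrix of `Equiv.sumComm` (`(g *ᵥ v) (inl 0) = v (inr 0)`, `(g *ᵥ v) (inr 0) = v (inl 0)`), `g * g = 1`, `g ≠ 1` (`1 ≠ 0` in `F`), so `orderOf g = 2`
  (`orderOf_eq_prime`).
* `real_inv_minus`: `ζ` from `exists_aniso` (`Sg/Aniso.lean`), `Q := Cfsg.Agent.Helper44.minusForm 0 F 1 ζ` on `(Fin 0 ⊕ Fin 0) ⊕ Fin 2` (card `2`;
  `quadFormMinus 0 F 1 ζ v = 0 + (v (inr 0) ^ 2 + 1 * v (inr 0) * v (inr 1) + ζ * v (inr 1) ^ 2)`), `hasType_minus 0 1 ζ hζ : HasType _ (0 + 1) (-1)`, nondegenerate: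
  `nondegenerate_minusForm 0 1 ζ hD` with `hD : 1 ^ 2 - 4 * ζ ≠ 0` (`4 = 0` in characteristic 2).  `g`: `z₁ ↦ z₁ + z₂`, `z₂ ↦ z₂` (matrix `!![1, 1; 0, 1]` reindexed to `(Fin 0 ⊕ Fin 0) ⊕ Fin 2`):
  `(z₁ + z₂)² + (z₁ + z₂) z₂ + ζ z₂² = z₁² + z₁ z₂ + ζ z₂²` because `2 = 0`; `g * g = 1` (`2 = 0`), `g ≠ 1`.
-/

namespace Cfsg.Agent.Helper94.Sg

universe u
variable {F : Type u} [Field F] [Fintype F]

/-- the swap of the hyperbolic pair over `ZMod 2` -/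
def inv_Mp : Matrix (Fin 1 ⊕ Fin 1) (Fin 1 ⊕ Fin 1) (ZMod 2) :=
  Matrix.fromBlocks 0 1 1 0

theorem inv_Mp_pow : inv_Mp ^ 2 ^ (0 + 1) = 1 := by decide

theorem inv_Mp_ne : inv_Mp ^ 2 ^ 0 ≠ 1 := by decide

/-- the transvection `z₁ ↦ z₁ + z₂`, `z₂ ↦ z₂` of the anisotropic plane over `ZMod 2` -/
def inv_Mm : Matrix ((Fin 0 ⊕ Fin 0) ⊕ Fin 2) ((Fin 0 ⊕ Fin 0) ⊕ Fin 2) (ZMod 2) :=
  Matrix.fromBlocks 0 0 0 !![1, 1; 0, 1]

theorem inv_Mm_pow : inv_Mm ^ 2 ^ (0 + 1) = 1 := by decide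

theorem inv_Mm_ne : inv_Mm ^ 2 ^ 0 ≠ 1 := by decide

theorem real_inv_plus [CharP F 2] : Real F 1 1 2 := by
  have h := Cfsg.Agent.Helper55.Sg.real_of_zmod_two (F := F) (Cfsg.Agent.Helper44.plusForm 1 F) 1 1
    (by simp) ((Cfsg.Agent.Helper44.QType.nondeg_iff _).mp
      (Cfsg.Agent.Helper44.nondegenerate_plusForm 1))
    (Cfsg.Agent.Helper44.QType.hasType_plus 1) inv_Mp 0 ?_ inv_Mp_pow inv_Mp_ne
  · exact h
  · intro v
    rw [Cfsg.Agent.Helper44.plusForm_coe]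
    unfold Cfsg.quadFormPlus
    simp only [Fin.sum_univ_one, inv_Mp, RingHom.mapMatrix_apply, Matrix.mulVec, dotProduct,
      Fintype.sum_sum_type, Matrix.map_apply, Matrix.fromBlocks_apply₁₁, Matrix.fromBlocks_apply₁₂,
      Matrix.fromBlocks_apply₂₁, Matrix.fromBlocks_apply₂₂]
    simp
    ring

theorem real_inv_minus [CharP F 2] : Real F 1 (-1) 2 := by
  have h2 : (2 : F) = 0 := CharTwo.two_eq_zero
  obtain ⟨ζ, hζ⟩ := exists_aniso (F := F)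
  have hD : (1 : F) ^ 2 - 4 * ζ ≠ 0 := by
    have h4 : (4 : F) = 0 := by linear_combination (2 : F) * h2
    rw [h4, zero_mul, sub_zero, one_pow]
    exact one_ne_zero
  have h := Cfsg.Agent.Helper55.Sg.real_of_zmod_two (F := F) (Cfsg.Agent.Helper44.minusForm 0 F 1 ζ)
    1 (-1) (by simp) ((Cfsg.Agent.Helper44.QType.nondeg_iff _).mp
      (Cfsg.Agent.Helper44.nondegenerate_minusForm 0 1 ζ hD))
    (Cfsg.Agent.Helper44.QType.hasType_minus 0 1 ζ hζ) inv_Mm 0 ?_ inv_Mm_pow inv_Mm_ne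
  · exact h
  · intro v
    rw [Cfsg.Agent.Helper44.minusForm_coe]
    unfold Cfsg.quadFormMinus
    simp only [Fin.sum_univ_two, inv_Mm, RingHom.mapMatrix_apply, Matrix.mulVec, dotProduct,
      Fintype.sum_sum_type, Matrix.map_apply, Matrix.fromBlocks_apply₁₁, Matrix.fromBlocks_apply₁₂,
      Matrix.fromBlocks_apply₂₁, Matrix.fromBlocks_apply₂₂]
    simp
    linear_combination (v (Sum.inr 0) * v (Sum.inr 1) + v (Sum.inr 1) ^ 2) * h2

end Cfsg.Agent.Helper94.Sg
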