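import Mathlib
import Cfsg.Agent.Helper94.Sg.Defs

set_option autoImplicit false
set_option linter.unusedSectionVars false
set_option linter.unusedVariables false

/-!
# (MF) the field data for the minus-type spaces: `K = F_{q^{2k}}`, `σ = Frob^k`, `c + σ c = 1`, `θ` of order `q^k + 1`

`K := FiniteField.Extension F 2 (2 * k)` (`Mathlib/FieldTheory/Finite/Extension.lean`; needs `Fact (Nat.Prime 2)`, `NeZero (2 * k)`): `Field`, `Finite`, `Algebra F K`,
`FiniteField.finrank_extension`, `FiniteField.natCard_extension : Nat.card K = Nat.card F ^ (2 * k)`.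
`σ := (FiniteField.Extension.frob F 2 (2 * k)) ^ k`, `Extension.frob_iterate_apply : (frob ^ i) x = x ^ (Nat.card F ^ i)`; so `σ x = x ^ (q ^ k)` and
`σ (σ x) = x ^ (q ^ k * q ^ k) = x ^ (q ^ (2 k)) = x` (`FiniteField.pow_card` with a `Fintype K` instance, or `Extension.frob` has order `2 k`: `pow_orderOf_eq_one`, `orderOf_frobeniusAlgEquivOfAlgebraic`).
`θ`: `Kˣ` is cyclic of order `q ^ (2 k) - 1 = (q ^ k - 1) * (q ^ k + 1)` (`IsCyclic.exists_ofOrder_eq_natCard`, `Nat.card_units`); `θ := ζ ^ (q ^ k - 1)` has order `q ^ k + 1`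
(`orderOf_pow_of_dvd`), and `θ * σ θ = θ ^ (q ^ k + 1) = 1`.
`c`: the additive map `x ↦ x + σ x` has kernel `{x | x ^ (q ^ k) = x}` of at most `q ^ k` elements (roots of `X ^ (q ^ k) - X`, `Polynomial.card_roots'`), so its image has at least
`q ^ k` elements and lies in the same set `{y | σ y = y}` (because `σ ∘ σ = id`); hence the image is that whole set, which contains `1`.
(Alternative: `Tr_{K/L}` onto the fixed field of `σ` is surjective.)
-/

namespace Cfsg.Agent.Helper94.Sg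

universe u
variable {F : Type u} [Field F] [Fintype F]

theorem exists_field_data [CharP F 2] (k : ℕ) (hk : 1 ≤ k) :
    ∃ (K : Type) (_ : Field K) (_ : Algebra F K) (_ : Finite K) (σ : K ≃ₐ[F] K) (c : K) (θ : Kˣ),
      Module.finrank F K = 2 * k ∧ (∀ x, σ (σ x) = x) ∧ c + σ c = 1 ∧ (θ : K) * σ (θ : K) = 1 ∧
        orderOf θ = Fintype.card F ^ k + 1 := by
  classical
  have : NeZero (2 * k) := ⟨by omega⟩
  have : Fact (Nat.Prime 2) := ⟨Nat.prime_two⟩
  obtain ⟨q, hq⟩ : ∃ q, q = Fintype.card F := ⟨_, rfl⟩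
  have hqN : Nat.card F = q := by rw [hq]; exact Nat.card_eq_fintype_card
  have hq2 : 2 ≤ q := by rw [hq]; exact Fintype.one_lt_card
  obtain ⟨Q, hQ⟩ : ∃ Q, Q = q ^ k := ⟨_, rfl⟩
  have hQ2 : 2 ≤ Q := by
    rw [hQ]
    calc 2 ≤ q := hq2
      _ = q ^ 1 := (pow_one q).symm
      _ ≤ q ^ k := Nat.pow_le_pow_right (by omega) hk
  let K := FiniteField.Extension F 2 (2 * k)
  let σ : K ≃ₐ[F] K := (FiniteField.Extension.frob F 2 (2 * k)) ^ k
  have hσ : ∀ x : K, σ x = x ^ Q := by
    intro x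
    show ((FiniteField.Extension.frob F 2 (2 * k)) ^ k) x = _
    rw [FiniteField.Extension.frob_iterate_apply, hqN, hQ]
  have hcardK : Nat.card K = Q * Q := by
    rw [FiniteField.natCard_extension, hqN, hQ, two_mul, pow_add]
  have hσσ : ∀ x : K, σ (σ x) = x := by
    intro x
    rw [hσ, hσ, ← pow_mul, ← hcardK]
    let _ := Fintype.ofFinite K
    rw [← Fintype.card_eq_nat_card]
    exact FiniteField.pow_card x
  have : CharP K 2 := charP_of_injective_algebraMap (algebraMap F K).injective 2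
  -- a generator of the unit group
  obtain ⟨ζ, hζ⟩ := IsCyclic.exists_ofOrder_eq_natCard (α := Kˣ)
  have hordζ : orderOf ζ = (Q - 1) * (Q + 1) := by
    rw [hζ, Nat.card_units, hcardK]
    obtain ⟨m, rfl⟩ : ∃ m, Q = m + 1 := ⟨Q - 1, by omega⟩
    simp only [Nat.add_sub_cancel]
    ring_nf
    omega
  have hQ1 : Q - 1 ≠ 0 := by omega
  -- θ
  let θ : Kˣ := ζ ^ (Q - 1)
  have hordθ : orderOf θ = Q + 1 := by
    show orderOf (ζ ^ (Q - 1)) = _
    rw [orderOf_pow_of_dvd hQ1 (by rw [hordζ]; exact dvd_mul_right _ _), hordζ,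
      Nat.mul_div_cancel_left _ (by omega)]
  have hθ1 : (θ : K) * σ (θ : K) = 1 := by
    rw [hσ, ← pow_succ', ← Units.val_pow_eq_pow_val, ← hordθ, pow_orderOf_eq_one, Units.val_one]
  -- σ moves ζ
  have hζne : σ (ζ : K) ≠ (ζ : K) := by
    intro h
    rw [hσ] at h
    have h1 : ζ ^ (Q - 1) = 1 := by
      apply Units.ext
      rw [Units.val_pow_eq_pow_val, Units.val_one]
      have hz : (ζ : K) ≠ 0 := ζ.ne_zero
      have : (ζ : K) ^ (Q - 1) * (ζ : K) = 1 * (ζ : K) := by
        rw [← pow_succ, Nat.sub_add_cancel (by omega), one_mul, h]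
      exact mul_right_cancel₀ hz this
    have hdvd := orderOf_dvd_of_pow_eq_one h1
    rw [hordζ] at hdvd
    have h2 := Nat.le_of_dvd (by omega) hdvd
    have h3 : (Q - 1) * 2 ≤ (Q - 1) * (Q + 1) := Nat.mul_le_mul_left _ (by omega)
    omega
  have hy : (ζ : K) + σ (ζ : K) ≠ 0 := by
    intro h
    apply hζne
    have : σ (ζ : K) = -(ζ : K) := by
      rw [eq_neg_iff_add_eq_zero, add_comm]; exact h
    rw [this, CharTwo.neg_eq]
  refine ⟨K, inferInstance, inferInstance, inferInstance, σ, (ζ : K) / ((ζ : K) + σ (ζ : K)), θ,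
    FiniteField.finrank_extension F 2 (2 * k), hσσ, ?_, hθ1, ?_⟩
  · rw [map_div₀, map_add, hσσ, add_comm (σ (ζ : K)) (ζ : K), ← add_div, div_self hy]
  · rw [hordθ, hQ, hq]

end Cfsg.Agent.Helper94.Sg
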