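import Mathlib
import Cfsg.Agent.Helper94.Sg.Defs
import Cfsg.Agent.Helper44.OrthRealizeC
import Cfsg.Agent.Helper38.Singer

set_option autoImplicit false
set_option linter.unusedSectionVars false
set_option linter.unusedVariables false

/-!
# (PLUS) an isometry of order `q ^ k - 1` of the hyperbolic space of dimension `2 k`

`Real` is in `Sg/Defs.lean`.  `ι := Fin k ⊕ Fin k`, `Q := Cfsg.Agent.Helper44.plusForm k F` (`StdForms.lean`, `plusForm_coe : ⇑(plusForm m F) = quadFormPlus m F := rfl`,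
`quadFormPlus m F v = ∑ i, v (inl i) * v (inr i)`); `Fintype.card (Fin k ⊕ Fin k) = 2 * k`; nondegenerate: `nondegenerate_plusForm k` (`StdNondeg.lean`) + `nondeg_iff` (`OrthRealizeC.lean`);
`hasType_plus k : HasType (quadFormPlus k F) k 1` (`QTypeCount.lean`).
`Cfsg.Agent.Helper38.exists_singer k hk` gives `A : Matrix (Fin k) (Fin k) F` with `orderOf A = q ^ k - 1` (`≥ 1`, so `A ^ (q^k-1) = 1` and `A` is invertible: `A⁻¹ = A ^ (q^k-2)` or `Matrix.isUnit_…`).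
`g := Matrix.fromBlocks A 0 0 (A⁻¹)ᵀ` with inverse `fromBlocks A⁻¹ 0 0 Aᵀ` (a `GL (Fin k ⊕ Fin k) F`): `(g *ᵥ v) (inl i) = (A *ᵥ (v ∘ inl)) i`, `(g *ᵥ v) (inr i) = ((A⁻¹)ᵀ *ᵥ (v ∘ inr)) i`, and
`(A *ᵥ x) ⬝ᵥ ((A⁻¹)ᵀ *ᵥ y) = x ⬝ᵥ y` (`Matrix.dotProduct_mulVec`, `vecMul_transpose`, `Matrix.mulVec_mulVec`), so `g ∈ Cfsg.isometryGroup` (`Cfsg.Agent.Helper44.mem_isometryGroup_iff`, `OrthSum.lean`).
Order: `g ^ j = fromBlocks (A ^ j) 0 0 ((A⁻¹)ᵀ ^ j)` (`Matrix.fromBlocks_diagonal_pow`-style induction), which is `1` iff `A ^ j = 1`; so `orderOf g = orderOf A` (`orderOf_eq_orderOf_iff`),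
through `Subgroup.orderOf_coe`, `orderOf_units`.
-/

namespace Cfsg.Agent.Helper94.Sg

universe u
variable {F : Type u} [Field F] [Fintype F]

open Matrix in
/-- inverse transpose on `GL` -/
def PLUS_invT (k : ℕ) : GL (Fin k) F →* GL (Fin k) F where
  toFun g := ⟨(g⁻¹).1ᵀ, g.1ᵀ, by
    rw [← Matrix.transpose_mul]; simp, by
    rw [← Matrix.transpose_mul]; simp⟩
  map_one' := by
    apply Units.ext
    simp
  map_mul' g h := by
    apply Units.ext
    simp [Matrix.transpose_mul]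

open Matrix in
theorem PLUS_invT_val (k : ℕ) (g : GL (Fin k) F) : (PLUS_invT k g).1 = (g⁻¹).1ᵀ := rfl

open Matrix in
theorem PLUS_mem (k : ℕ) (u : GL (Fin k) F) :
    Cfsg.Agent.Helper44.blockDiagGL (Fin k) (Fin k) F (u, PLUS_invT k u) ∈
      Cfsg.isometryGroup F (Cfsg.quadFormPlus k F) := by
  rw [Cfsg.Agent.Helper44.mem_isometryGroup_iff]
  intro w
  rw [Cfsg.Agent.Helper44.blockDiagGL_coe, Matrix.fromBlocks_mulVec]
  unfold Cfsg.quadFormPlus
  simp only [Sum.elim_inl, Sum.elim_inr, Matrix.zero_mulVec, add_zero, zero_add]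
  have key : (u.1 *ᵥ (w ∘ Sum.inl)) ⬝ᵥ ((PLUS_invT k u).1 *ᵥ (w ∘ Sum.inr)) =
      (w ∘ Sum.inl) ⬝ᵥ (w ∘ Sum.inr) := by
    rw [← Matrix.vecMul_transpose, ← Matrix.dotProduct_mulVec, Matrix.mulVec_mulVec,
      PLUS_invT_val, ← Matrix.transpose_mul]
    have h1 : (u⁻¹).1 * u.1 = 1 := by simp
    rw [h1, Matrix.transpose_one, Matrix.one_mulVec]
  exact key

theorem PLUS_pow_eq_one_iff (k : ℕ) (u : GL (Fin k) F) (j : ℕ) :
    (Cfsg.Agent.Helper44.blockDiagGL (Fin k) (Fin k) F (u, PLUS_invT k u)) ^ j = 1 ↔ u ^ j = 1 := by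
  rw [← map_pow, Prod.pow_mk, ← map_pow]
  constructor
  · intro h
    have h1 := congrArg (fun x : GL (Fin k ⊕ Fin k) F => (x : Matrix (Fin k ⊕ Fin k) (Fin k ⊕ Fin k) F)) h
    simp only [Cfsg.Agent.Helper44.blockDiagGL_coe, Units.val_one] at h1
    rw [← Matrix.fromBlocks_one, Matrix.fromBlocks_inj] at h1
    exact Units.ext h1.1
  · intro h
    rw [h, map_one]
    exact map_one _

theorem real_plus (k : ℕ) (hk : 1 ≤ k) : Real F k 1 (Fintype.card F ^ k - 1) := by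
  classical
  obtain ⟨A, hA, -, -⟩ := Cfsg.Agent.Helper38.exists_singer (F := F) k hk
  have hq : 2 ≤ Fintype.card F := Fintype.one_lt_card
  have hqk : 2 ≤ Fintype.card F ^ k := hq.trans (Nat.le_self_pow (by omega) _)
  have hN : 0 < Fintype.card F ^ k - 1 := by omega
  have hApow : A ^ (Fintype.card F ^ k - 1) = 1 := by rw [← hA]; exact pow_orderOf_eq_one A
  have hunit : IsUnit A := by
    refine ⟨⟨A, A ^ (Fintype.card F ^ k - 1 - 1), ?_, ?_⟩, rfl⟩
    · rw [← pow_succ', Nat.sub_add_cancel hN, hApow]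
    · rw [← pow_succ, Nat.sub_add_cancel hN, hApow]
  set u : GL (Fin k) F := hunit.unit with hu
  have huA : (u : Matrix (Fin k) (Fin k) F) = A := hunit.unit_spec
  have hou : orderOf u = Fintype.card F ^ k - 1 := by
    rw [← hA, ← huA, orderOf_units]
  refine ⟨Fin k ⊕ Fin k, inferInstance, inferInstance, Cfsg.Agent.Helper44.plusForm k F, ?_, ?_, ?_, ?_⟩
  · simp; ring
  · exact (Cfsg.Agent.Helper44.QType.nondeg_iff _).mp (Cfsg.Agent.Helper44.nondegenerate_plusForm k)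
  · rw [Cfsg.Agent.Helper44.plusForm_coe]
    exact Cfsg.Agent.Helper44.QType.hasType_plus k
  · refine ⟨⟨Cfsg.Agent.Helper44.blockDiagGL (Fin k) (Fin k) F (u, PLUS_invT k u), ?_⟩, ?_⟩
    · rw [Cfsg.Agent.Helper44.plusForm_coe]
      exact PLUS_mem k u
    · rw [← hou, Subgroup.orderOf_mk]
      rw [orderOf_eq_orderOf_iff]
      intro j
      exact PLUS_pow_eq_one_iff k u j

end Cfsg.Agent.Helper94.Sg
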