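import Mathlib
import Cfsg.Agent.Helper94.Sg.Defs
import Cfsg.Agent.Helper44.OrthRealizeC
import Cfsg.Agent.Helper55.SgZ2

set_option autoImplicit false
set_option linter.unusedSectionVars false
set_option linter.unusedVariables false
set_option maxRecDepth 100000

/-!
# (SMALL) isometries of order 4 and 8 of the hyperbolic spaces of dimension 4 and 6 (characteristic 2)

`Real` is in `Sg/Defs.lean`.  `Q := Cfsg.Agent.Helper44.plusForm m F` on `Fin m ⊕ Fin m` (`quadFormPlus m F v = ∑ i, v (inl i) * v (inr i)`), `hasType_plus m`, `nondegenerate_plusForm m` + `nondeg_iff`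
(`OrthRealizeC.lean`), card `2 * m`.  Membership in `Cfsg.isometryGroup`: `Cfsg.Agent.Helper44.mem_isometryGroup_iff` (`OrthSum.lean`).
* `real_four` (`m = 2`): with coordinates `(x₁, x₂, y₁, y₂)` (`xᵢ = v (inl i)`, `yᵢ = v (inr i)`) the cyclic shift `x₁' = x₂, x₂' = y₁, y₁' = y₂, y₂' = x₁` preserves `x₁ y₁ + x₂ y₂`; it is a permutation
  matrix of a 4-cycle: `g ^ 4 = 1`, `g ^ 2 ≠ 1`, so `orderOf g = 4` (`orderOf_eq_prime_pow` with `p = 2`, `n = 1`: `¬ g ^ 2 ^ 1 = 1`, `g ^ 2 ^ 2 = 1`).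
* `real_eight_plus` (`m = 3`): coordinates `(x₁, x₂, x₃, y₁, y₂, y₃)`; the 0/1 matrix (row `i` = new coordinate `i`)
  `x₁' = y₁`, `x₂' = x₃ + y₁`, `x₃' = x₂`, `y₁' = x₁ + y₃`, `y₂' = y₃`, `y₃' = y₂`
  i.e. rows `[0,0,0,1,0,0], [0,0,1,1,0,0], [0,1,0,0,0,0], [1,0,0,0,0,1], [0,0,0,0,0,1], [0,0,0,0,1,0]`; it preserves `x₁ y₁ + x₂ y₂ + x₃ y₃` when `2 = 0`
  (`x₁'y₁' + x₂'y₂' + x₃'y₃' = y₁x₁ + y₁y₃ + x₃y₃ + y₁y₃ + x₂y₂`), `g ^ 8 = 1`, `g ^ 4 ≠ 1` (checked by machine over `F_2`; over `F` use `2 = 0`, e.g. define the matrix over `ZMod 2`, `decide` there,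
  and map along `ZMod.castHom`/`algebraMap (ZMod 2) F`, or compute the powers entrywise with `fin_cases`/`simp`/`CharTwo.two_eq_zero`).  `orderOf_eq_prime_pow` with `p = 2`, `n = 2`.
-/

namespace Cfsg.Agent.Helper94.Sg

universe u
variable {F : Type u} [Field F] [Fintype F]

/-- the 4-cycle `x₁' = x₂, x₂' = y₁, y₁' = y₂, y₂' = x₁` over `ZMod 2` -/
def small_M4 : Matrix (Fin 2 ⊕ Fin 2) (Fin 2 ⊕ Fin 2) (ZMod 2) :=
  Matrix.fromBlocks !![0, 1; 0, 0] !![0, 0; 1, 0] !![0, 0; 1, 0] !![0, 1; 0, 0]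

theorem small_M4_pow : small_M4 ^ 2 ^ (1 + 1) = 1 := by decide

theorem small_M4_ne : small_M4 ^ 2 ^ 1 ≠ 1 := by decide

/-- the matrix of order 8 over `ZMod 2` -/
def small_M8 : Matrix (Fin 3 ⊕ Fin 3) (Fin 3 ⊕ Fin 3) (ZMod 2) :=
  Matrix.fromBlocks !![0, 0, 0; 0, 0, 1; 0, 1, 0] !![1, 0, 0; 1, 0, 0; 0, 0, 0]
    !![1, 0, 0; 0, 0, 0; 0, 0, 0] !![0, 0, 1; 0, 0, 1; 0, 1, 0]

theorem small_M8_pow : small_M8 ^ 2 ^ (2 + 1) = 1 := by decide

theorem small_M8_ne : small_M8 ^ 2 ^ 2 ≠ 1 := by decide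

theorem real_four [CharP F 2] : Real F 2 1 4 := by
  have h := Cfsg.Agent.Helper55.Sg.real_of_zmod_two (F := F) (Cfsg.Agent.Helper44.plusForm 2 F) 2 1
    (by simp) ((Cfsg.Agent.Helper44.QType.nondeg_iff _).mp (Cfsg.Agent.Helper44.nondegenerate_plusForm 2))
    (Cfsg.Agent.Helper44.QType.hasType_plus 2) small_M4 1 ?_ small_M4_pow small_M4_ne
  · exact h
  · intro v
    rw [Cfsg.Agent.Helper44.plusForm_coe]
    unfold Cfsg.quadFormPlus
    simp only [Fin.sum_univ_two, small_M4, RingHom.mapMatrix_apply, Matrix.mulVec, dotProduct,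
      Fintype.sum_sum_type, Matrix.map_apply, Matrix.fromBlocks_apply₁₁, Matrix.fromBlocks_apply₁₂,
      Matrix.fromBlocks_apply₂₁, Matrix.fromBlocks_apply₂₂]
    simp
    ring

theorem real_eight_plus [CharP F 2] : Real F 3 1 8 := by
  have h2 : (2 : F) = 0 := CharTwo.two_eq_zero
  have h := Cfsg.Agent.Helper55.Sg.real_of_zmod_two (F := F) (Cfsg.Agent.Helper44.plusForm 3 F) 3 1
    (by simp) ((Cfsg.Agent.Helper44.QType.nondeg_iff _).mp (Cfsg.Agent.Helper44.nondegenerate_plusForm 3))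
    (Cfsg.Agent.Helper44.QType.hasType_plus 3) small_M8 2 ?_ small_M8_pow small_M8_ne
  · exact h
  · intro v
    rw [Cfsg.Agent.Helper44.plusForm_coe]
    unfold Cfsg.quadFormPlus
    simp only [Fin.sum_univ_three, small_M8, RingHom.mapMatrix_apply, Matrix.mulVec, dotProduct,
      Fintype.sum_sum_type, Matrix.map_apply, Matrix.fromBlocks_apply₁₁, Matrix.fromBlocks_apply₁₂,
      Matrix.fromBlocks_apply₂₁, Matrix.fromBlocks_apply₂₂]
    simp
    linear_combination (v (Sum.inr 0) * v (Sum.inr 2)) * h2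

end Cfsg.Agent.Helper94.Sg
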