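import Mathlib
import Cfsg.Agent.Helper94.Sg.Defs
import Cfsg.Agent.Helper94.Sg.P_ARX
import Cfsg.Agent.Helper94.Sg.P_SUM
import Cfsg.Agent.Helper94.Sg.P_FIN
import Cfsg.Agent.Helper94.Sg.P_ABS
import Cfsg.Agent.Helper94.Sg.P_MF
import Cfsg.Agent.Helper94.Sg.P_MQ
import Cfsg.Agent.Helper94.Sg.P_PLUS
import Cfsg.Agent.Helper94.Sg.P_INV
import Cfsg.Agent.Helper94.Sg.P_SMALL
import Cfsg.Agent.Helper94.Sg.P_E8M

set_option autoImplicit false
set_option linter.unusedSectionVars false
set_option linter.unusedVariables false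

/-!
# S3589: existence — each of the twelve numbers is an element order of `GO_8^-(q)`, `q` even
-/

namespace Cfsg.Agent.Helper94.Sg

universe u
variable {F : Type u} [Field F] [Fintype F]

theorem real_minus [CharP F 2] (k : ℕ) (hk : 1 ≤ k) : Real F k (-1) (Fintype.card F ^ k + 1) := by
  obtain ⟨K, _, _, _, σ, c, θ, hfr, hσ, hc, hθ, hord⟩ := exists_field_data (F := F) k hk
  exact real_of_realAbs (realAbs_minus k hk hfr σ hσ c hc θ hθ hord)

theorem Real.cast {m m' n : ℕ} {ε ε' : ℤ} (h : Real F m ε n) (hm : m = m') (hε : ε = ε') :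
    Real F m' ε' n := by
  subst hm; subst hε; exact h

theorem card_two_le : 2 ≤ Fintype.card F := Fintype.one_lt_card

theorem card_even [CharP F 2] : Even (Fintype.card F) := by
  have h : ringChar F = 2 := (ringChar.eq F 2)
  have := FiniteField.even_card_of_char_two h
  exact Nat.even_iff.mpr this

/-- a minus-type space of dimension 8 with an isometry whose order is a multiple of `N` gives an element of order `N` -/
theorem exists_of_real_dvd [CharP F 2] (a b : F)
    (hab : ∀ z₁ z₂ : F, z₁ ^ 2 + a * z₁ * z₂ + b * z₂ ^ 2 = 0 → z₁ = 0 ∧ z₂ = 0) {n N : ℕ}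
    (hN : N ≠ 0) (hdvd : N ∣ n) (h : Real F 4 (-1) n) :
    ∃ g : ↥(Cfsg.isometryGroup F (Cfsg.quadFormMinus 3 F a b)), orderOf g = N := by
  obtain ⟨g, hg⟩ := real_fin a b hab h
  obtain ⟨d, rfl⟩ := hdvd
  have hd : d ≠ 0 := by
    rintro rfl
    have hfin : 0 < orderOf g := orderOf_pos g
    rw [hg] at hfin
    simp at hfin
  refine ⟨g ^ d, ?_⟩
  rw [orderOf_pow_of_dvd hd (by rw [hg]; exact Dvd.intro_left N rfl), hg]
  exact Nat.mul_div_cancel N (Nat.pos_of_ne_zero hd)

theorem exists_fin12 [CharP F 2] (a b : F)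
    (hab : ∀ z₁ z₂ : F, z₁ ^ 2 + a * z₁ * z₂ + b * z₂ ^ 2 = 0 → z₁ = 0 ∧ z₂ = 0) {N : ℕ}
    (hN : N ∈ fin12 (Fintype.card F)) :
    ∃ g : ↥(Cfsg.isometryGroup F (Cfsg.quadFormMinus 3 F a b)), orderOf g = N := by
  have hq : 2 ≤ Fintype.card F := card_two_le
  have he : Even (Fintype.card F) := card_even
  set q := Fintype.card F with hqdef
  have hq2 : 4 ≤ q ^ 2 := by nlinarith
  have hq3 : 8 ≤ q ^ 3 := by nlinarith
  have hq4 : 16 ≤ q ^ 4 := by nlinarith
  have hM1 := real_minus (F := F) 1 le_rfl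
  have hM2 := real_minus (F := F) 2 (by norm_num)
  have hM3 := real_minus (F := F) 3 (by norm_num)
  have hM4 := real_minus (F := F) 4 (by norm_num)
  have hP1 := real_plus (F := F) 1 le_rfl
  have hP2 := real_plus (F := F) 2 (by norm_num)
  have hP3 := real_plus (F := F) 3 (by norm_num)
  rw [← hqdef] at hM1 hM2 hM3 hM4 hP1 hP2 hP3
  have hIp := real_inv_plus (F := F)
  have hIm := real_inv_minus (F := F)
  have h4 := real_four (F := F)
  have h8p := real_eight_plus (F := F)
  have h8m := real_eight_minus (F := F)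
  simp only [fin12, List.mem_cons, List.mem_nil_iff, or_false] at hN
  rcases hN with rfl | rfl | rfl | rfl | rfl | rfl | rfl | rfl | rfl | rfl | rfl | rfl
  · -- q^4 + 1
    exact exists_of_real_dvd a b hab (by positivity) dvd_rfl hM4
  · -- q^4 - 1
    exact exists_of_real_dvd a b hab (by omega) (arx2 q hq he)
      ((real_sum hM2 hP2).cast (by norm_num) (by norm_num))
  · -- (q^3 - 1)(q + 1)
    exact exists_of_real_dvd a b hab
      (Nat.mul_ne_zero (by omega) (by omega)) (arx3 q hq he)
      ((real_sum hP3 hM1).cast (by norm_num) (by norm_num))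
  · -- (q^3 + 1)(q - 1)
    exact exists_of_real_dvd a b hab
      (Nat.mul_ne_zero (by omega) (by omega)) (arx4 q hq he)
      ((real_sum hM3 hP1).cast (by norm_num) (by norm_num))
  · -- 2 (q^3 + 1)
    exact exists_of_real_dvd a b hab (by positivity) (arx5 q hq he)
      ((real_sum hM3 hIp).cast (by norm_num) (by norm_num))
  · -- 2 (q^3 - 1)
    exact exists_of_real_dvd a b hab
      (Nat.mul_ne_zero (by omega) (by omega)) (arx6 q hq he)
      ((real_sum hP3 hIm).cast (by norm_num) (by norm_num))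
  · -- 2 (q^2 + 1)(q + 1)
    exact exists_of_real_dvd a b hab (by positivity) (arx7 q hq he)
      ((real_sum (real_sum hM2 hM1) hIm).cast (by norm_num) (by norm_num))
  · -- 2 (q^2 + 1)(q - 1)
    exact exists_of_real_dvd a b hab
      (Nat.mul_ne_zero (by omega) (Nat.mul_ne_zero (by omega) (by omega))) (arx8 q hq he)
      ((real_sum (real_sum hM2 hP1) hIp).cast (by norm_num) (by norm_num))
  · -- 4 (q^2 + 1)
    exact exists_of_real_dvd a b hab (by positivity) (arx9 q hq he)
      ((real_sum hM2 h4).cast (by norm_num) (by norm_num))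
  · -- 4 (q^2 - 1)
    exact exists_of_real_dvd a b hab
      (Nat.mul_ne_zero (by omega) (by omega)) (arx10 q hq he)
      ((real_sum (real_sum hM1 hP1) h4).cast (by norm_num) (by norm_num))
  · -- 8 (q + 1)
    exact exists_of_real_dvd a b hab (by positivity) (arx11 q hq he)
      ((real_sum hM1 h8p).cast (by norm_num) (by norm_num))
  · -- 8 (q - 1)
    exact exists_of_real_dvd a b hab
      (Nat.mul_ne_zero (by omega) (by omega)) (arx12 q hq he)
      ((real_sum hP1 h8m).cast (by norm_num) (by norm_num))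

end Cfsg.Agent.Helper94.Sg
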