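import Mathlib
import Cfsg.Agent.Helper94.Sg.Defs
import Cfsg.Agent.Helper44.OrthRealizeC
import Cfsg.Agent.S0246
import Cfsg.Agent.Helper44.StdNondeg
import Cfsg.Agent.Helper94.Eo.P_GRAM
import Cfsg.Agent.Helper63.PGM1

set_option autoImplicit false
set_option linter.unusedSectionVars false
set_option linter.unusedVariables false

/-!
# (EMB) `GO_8^-(q) ≤ Sp_8(q)` in characteristic 2: every element order of the orthogonal group is an element order of `PSp_8`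

`g` preserves `Q = quadFormMinus 3 F a b`, hence its polar form.  In characteristic 2 the polar form in coordinates `(x₁,x₂,x₃,y₁,y₂,y₃,z₁,z₂)` is
`∑ (xᵢ yᵢ' + yᵢ xᵢ') + a (z₁ z₂' + z₂ z₁')` (`polar_quadFormMinus`, `MinusForm.lean`; `2 = 0`), and `a ≠ 0` (if `a = 0` then `z₁² + b z₂²` has the zero `(√b, 1)`,
`√b` from surjectivity of the Frobenius of a finite field of characteristic 2; or use `Eo.binary_disc_ne_zero`, `Eo/P_GRAM.lean`).
So with the linear bijection `P : (Fin 4 ⊕ Fin 4 → F) → ((Fin 3 ⊕ Fin 3) ⊕ Fin 2 → F)` sending `e_{inl i} ↦ e_{x_i}`, `e_{inr i} ↦ e_{y_i}` (`i < 3`), `e_{inl 3} ↦ e_{z₁}`, `e_{inr 3} ↦ a⁻¹ e_{z₂}`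
the polar form becomes the standard `J` of `Matrix.symplecticGroup (Fin 4) F` (`J = fromBlocks 0 (-1) 1 0`, and `-1 = 1`), and `s := P⁻¹ g P ∈ Matrix.symplecticGroup (Fin 4) F`
(`Matrix.mem_symplecticGroup_iff : A * J l R * Aᵀ = J l R`; watch the transpose convention: `g` preserves the form `u ⬝ᵥ B *ᵥ v` iff `gᵀ B g = B`, `Eo.gram_of_isometry` in `Eo/P_CHAR.lean`; if convenient use
`sᵀ` or `s⁻¹`, which have the same order).  `g ↦ s` is an injective monoid hom, so `orderOf s = orderOf g`.  Finally `x := QuotientGroup.mk s` and the centre of `Matrix.symplecticGroup (Fin 4) F` is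
trivial in characteristic 2: `Cfsg.Agent.S0246.mem_center_iff (hm : 1 ≤ m) Z : Z ∈ center ↔ Z = 1 ∨ Z = negOne m F`, and `negOne = 1` as `-1 = 1`; so `s ^ j ∈ center ↔ s ^ j = 1` and
`orderOf (mk s) = orderOf s` (`orderOf_eq_orderOf_iff`, `QuotientGroup.eq_one_iff`).
(Alternative to the explicit `P`: any abstract symplectic-basis theorem on main for a nondegenerate alternating form.)
-/

namespace Cfsg.Agent.Helper94.Sg

universe u
variable {F : Type u} [Field F] [Fintype F]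

theorem exists_psp_orderOf [CharP F 2] (a b : F)
    (hab : ∀ z₁ z₂ : F, z₁ ^ 2 + a * z₁ * z₂ + b * z₂ ^ 2 = 0 → z₁ = 0 ∧ z₂ = 0)
    (g : ↥(Cfsg.isometryGroup F (Cfsg.quadFormMinus 3 F a b))) :
    ∃ x : Cfsg.PSp 4 F, orderOf x = orderOf g := by
  classical
  have h2 : (2 : F) = 0 := by
    have := CharP.cast_eq_zero F 2
    exact_mod_cast this
  have hD : a ^ 2 - 4 * b ≠ 0 := by
    have h1 := Cfsg.Agent.Helper94.Eo.binary_disc_ne_zero a b hab
    intro h3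
    apply h1
    linear_combination -h3
  have hnd := Cfsg.Agent.Helper44.nondegenerate_minusForm 3 a b hD
  -- the linear map of `g`
  have hQ : ∀ v, Cfsg.Agent.Helper44.minusForm 3 F a b
      (Matrix.toLin' ((g : Matrix.GeneralLinearGroup ((Fin 3 ⊕ Fin 3) ⊕ Fin 2) F) :
        Matrix ((Fin 3 ⊕ Fin 3) ⊕ Fin 2) ((Fin 3 ⊕ Fin 3) ⊕ Fin 2) F) v) =
      Cfsg.Agent.Helper44.minusForm 3 F a b v := by
    intro v
    have h3 := (Cfsg.Agent.Helper13.mem_isometryGroup_iff _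
      (g : Matrix.GeneralLinearGroup ((Fin 3 ⊕ Fin 3) ⊕ Fin 2) F)).1 g.2 v
    rw [Matrix.toLin'_apply]
    exact h3
  have hord : orderOf (Matrix.toLin' ((g : Matrix.GeneralLinearGroup ((Fin 3 ⊕ Fin 3) ⊕ Fin 2) F) :
      Matrix ((Fin 3 ⊕ Fin 3) ⊕ Fin 2) ((Fin 3 ⊕ Fin 3) ⊕ Fin 2) F)) = orderOf g := by
    apply orderOf_eq_orderOf_iff.2
    intro k
    have e1 : (Matrix.toLin' ((g : Matrix.GeneralLinearGroup ((Fin 3 ⊕ Fin 3) ⊕ Fin 2) F) :
        Matrix ((Fin 3 ⊕ Fin 3) ⊕ Fin 2) ((Fin 3 ⊕ Fin 3) ⊕ Fin 2) F)) ^ k =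
        Matrix.toLin' (((g ^ k : ↥(Cfsg.isometryGroup F (Cfsg.quadFormMinus 3 F a b))) :
          Matrix.GeneralLinearGroup ((Fin 3 ⊕ Fin 3) ⊕ Fin 2) F) :
          Matrix ((Fin 3 ⊕ Fin 3) ⊕ Fin 2) ((Fin 3 ⊕ Fin 3) ⊕ Fin 2) F) := by
      have := map_pow (Matrix.toLinAlgEquiv' (R := F) (n := (Fin 3 ⊕ Fin 3) ⊕ Fin 2))
        ((g : Matrix.GeneralLinearGroup ((Fin 3 ⊕ Fin 3) ⊕ Fin 2) F) :
          Matrix ((Fin 3 ⊕ Fin 3) ⊕ Fin 2) ((Fin 3 ⊕ Fin 3) ⊕ Fin 2) F) k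
      rw [Subgroup.coe_pow, Units.val_pow_eq_pow_val]
      exact this.symm
    rw [e1]
    constructor
    · intro h3
      apply Subtype.ext
      apply Units.ext
      apply Matrix.toLin'.injective
      rw [h3, Subgroup.coe_one, Units.val_one, Matrix.toLin'_one]
      rfl
    · intro h3
      rw [h3, Subgroup.coe_one, Units.val_one, Matrix.toLin'_one]
      rfl
  have hmodel : Cfsg.Agent.Helper99.PG.SpModel F 4 (orderOf g) := by
    refine ⟨((Fin 3 ⊕ Fin 3) ⊕ Fin 2 → F), inferInstance, inferInstance, inferInstance,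
      QuadraticMap.polarBilin (Cfsg.Agent.Helper44.minusForm 3 F a b),
      Matrix.toLin' ((g : Matrix.GeneralLinearGroup ((Fin 3 ⊕ Fin 3) ⊕ Fin 2) F) :
        Matrix ((Fin 3 ⊕ Fin 3) ⊕ Fin 2) ((Fin 3 ⊕ Fin 3) ⊕ Fin 2) F), ?_, hnd, ?_, ?_, hord⟩
    · intro x
      show QuadraticMap.polar (Cfsg.Agent.Helper44.minusForm 3 F a b) x x = 0
      rw [QuadraticMap.polar_self, two_smul, ← two_mul, h2, zero_mul]
    · rw [Cfsg.Agent.Helper44.QType.finrank_minus_idx]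
    · intro x y
      show QuadraticMap.polar (Cfsg.Agent.Helper44.minusForm 3 F a b) _ _ =
        QuadraticMap.polar (Cfsg.Agent.Helper44.minusForm 3 F a b) x y
      unfold QuadraticMap.polar
      rw [← map_add, hQ, hQ, hQ]
  obtain ⟨X, hX⟩ := Cfsg.Agent.Helper63.PG.SpModel.real hmodel
  -- the centre is trivial in characteristic 2
  have hcen : Subgroup.center (Matrix.symplecticGroup (Fin 4) F) = ⊥ := by
    rw [← Subgroup.card_eq_one, Cfsg.Agent.S0246.result rfl 4 (by norm_num)]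
    obtain ⟨n, -, hn⟩ := FiniteField.card F 2
    rw [hn]
    obtain ⟨n', hn'⟩ : ∃ n' : ℕ, (n : ℕ) = n' + 1 := ⟨(n : ℕ) - 1, by have := n.pos; omega⟩
    rw [hn', pow_succ]
    have hpos : 0 < 2 ^ n' := Nat.pos_of_ne_zero (pow_ne_zero _ (by norm_num))
    have hodd : Odd (2 ^ n' * 2 - 1) := ⟨2 ^ n' - 1, by omega⟩
    exact Nat.coprime_two_left.mpr hodd
  refine ⟨QuotientGroup.mk X, ?_⟩
  rw [← hX]
  apply orderOf_eq_orderOf_iff.2
  intro k
  rw [← QuotientGroup.mk_pow, QuotientGroup.eq_one_iff, hcen, Subgroup.mem_bot]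

end Cfsg.Agent.Helper94.Sg
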