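import Mathlib
import Cfsg.Agent.Helper94.Sg.Defs

set_option autoImplicit false
set_option linter.unusedSimpArgs false
set_option linter.unnecessarySeqFocus false
set_option linter.unusedSectionVars false
set_option linter.unusedVariables false

/-!
# (AR12) closure of the exponent lists, half-dimensions 1 and 2 (pure ℕ)

`Lr` is in `Sg/Defs.lean` (`simp [Lr]` / `List.mem_cons`).  After `interval_cases k`, `interval_cases μ` (`k μ ≤ r`) every case is: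
pick the member `N` of `Lr r q`, then `Nat.lcm_dvd` and plain divisibilities such as `(q - 1) ∣ q ^ 2 - 1`, `(q + 1) ∣ q ^ 2 - 1`
(`q ^ 2 - 1 = (q - 1) * (q + 1)`; prove such identities after `obtain ⟨t, rfl⟩ : ∃ t, q = t + 2`, or with `Nat.sub_one_mul`/`zify`).
`Nat.clog 2 1 = 0`, `Nat.clog 2 2 = 1` (`by decide`/`Nat.clog` unfold).  Case table (ε = ±1, e = q ^ k + ε):
`r = 1`: `(k, μ) = (1, 1)`, `N' = 1`: `N = e`.
`r = 2`: `(1, 1)`, `N' ∈ [q - 1, q + 1]`: `N = q ^ 2 - 1` (both `q - 1` and `q + 1` divide it).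
  `(1, 2)`, `N' = 1`: `N = 2 * e`.  `(2, 1)`, `N' = 1`: `N = e = q ^ 2 ± 1`.
-/

namespace Cfsg.Agent.Helper94.Sg

theorem ar1 (q : ℕ) (hq : 2 ≤ q) (k μ e N' : ℕ) (hk : 1 ≤ k) (hμ : 1 ≤ μ) (hkμ : k * μ ≤ 1)
    (he : e = q ^ k + 1 ∨ e = q ^ k - 1) (hN' : N' ∈ Lr (1 - k * μ) q) :
    ∃ N ∈ Lr 1 q, Nat.lcm (e * 2 ^ Nat.clog 2 μ) N' ∣ N := by
  obtain ⟨a, rfl⟩ : ∃ a, q = a + 1 := ⟨q - 1, by omega⟩
  have s1 : a + 1 - 1 = a := by omega
  have s2 : (a + 1) ^ 2 - 1 = a * (a + 2) := Nat.sub_eq_of_eq_add (by ring)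
  have s3 : (a + 1) ^ 3 - 1 = a * (a ^ 2 + 3 * a + 3) := Nat.sub_eq_of_eq_add (by ring)
  have c1 : Nat.clog 2 1 = 0 := by decide
  have c2 : Nat.clog 2 2 = 1 := by decide
  have c3 : Nat.clog 2 3 = 2 := by decide
  have m0 : a ∈ Lr 1 (a + 1) := by simp [Lr, s1, s2, s3]
  have m1 : (a + 1 + 1) ∈ Lr 1 (a + 1) := by simp [Lr, s1, s2, s3]
  have hcases : (k = 1 ∧ μ = 1) := by
    have hk3 : k ≤ 1 := by nlinarith
    have hμ3 : μ ≤ 1 := by nlinarith
    interval_cases k <;> interval_cases μ <;> omega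
  rcases hcases with ⟨rfl, rfl⟩
  · -- k = 1, μ = 1
    change N' ∈ Lr 0 (a + 1) at hN'
    simp only [Lr, List.mem_cons, List.mem_singleton, List.not_mem_nil, or_false] at hN'
    rcases he with he | he
    · subst e
      have h := hN'
      all_goals (subst N'; try simp only [s1, s2, s3, c1, c2, c3, pow_zero, pow_one, mul_one])
      · exact ⟨_, m1, Nat.lcm_dvd ⟨(1), by ring⟩ ⟨(a + 2), by ring⟩⟩
    · subst e
      have h := hN'
      all_goals (subst N'; try simp only [s1, s2, s3, c1, c2, c3, pow_zero, pow_one, mul_one])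
      · exact ⟨_, m0, Nat.lcm_dvd ⟨(1), by ring⟩ ⟨(a), by ring⟩⟩

theorem ar2 (q : ℕ) (hq : 2 ≤ q) (k μ e N' : ℕ) (hk : 1 ≤ k) (hμ : 1 ≤ μ) (hkμ : k * μ ≤ 2)
    (he : e = q ^ k + 1 ∨ e = q ^ k - 1) (hN' : N' ∈ Lr (2 - k * μ) q) :
    ∃ N ∈ Lr 2 q, Nat.lcm (e * 2 ^ Nat.clog 2 μ) N' ∣ N := by
  obtain ⟨a, rfl⟩ : ∃ a, q = a + 1 := ⟨q - 1, by omega⟩
  have s1 : a + 1 - 1 = a := by omega
  have s2 : (a + 1) ^ 2 - 1 = a * (a + 2) := Nat.sub_eq_of_eq_add (by ring)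
  have s3 : (a + 1) ^ 3 - 1 = a * (a ^ 2 + 3 * a + 3) := Nat.sub_eq_of_eq_add (by ring)
  have c1 : Nat.clog 2 1 = 0 := by decide
  have c2 : Nat.clog 2 2 = 1 := by decide
  have c3 : Nat.clog 2 3 = 2 := by decide
  have m0 : a * (a + 2) ∈ Lr 2 (a + 1) := by simp [Lr, s1, s2, s3]
  have m1 : ((a + 1) ^ 2 + 1) ∈ Lr 2 (a + 1) := by simp [Lr, s1, s2, s3]
  have m2 : 2 * a ∈ Lr 2 (a + 1) := by simp [Lr, s1, s2, s3]
  have m3 : 2 * (a + 1 + 1) ∈ Lr 2 (a + 1) := by simp [Lr, s1, s2, s3]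
  have hcases : (k = 1 ∧ μ = 1) ∨ (k = 1 ∧ μ = 2) ∨ (k = 2 ∧ μ = 1) := by
    have hk3 : k ≤ 2 := by nlinarith
    have hμ3 : μ ≤ 2 := by nlinarith
    interval_cases k <;> interval_cases μ <;> omega
  rcases hcases with ⟨rfl, rfl⟩ | ⟨rfl, rfl⟩ | ⟨rfl, rfl⟩
  · -- k = 1, μ = 1
    change N' ∈ Lr 1 (a + 1) at hN'
    simp only [Lr, List.mem_cons, List.mem_singleton, List.not_mem_nil, or_false] at hN'
    rcases he with he | he
    · subst e
      rcases hN' with h | h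
      all_goals (subst N'; try simp only [s1, s2, s3, c1, c2, c3, pow_zero, pow_one, mul_one])
      · exact ⟨_, m0, Nat.lcm_dvd ⟨(a), by ring⟩ ⟨(a + 2), by ring⟩⟩
      · exact ⟨_, m0, Nat.lcm_dvd ⟨(a), by ring⟩ ⟨(a), by ring⟩⟩
    · subst e
      rcases hN' with h | h
      all_goals (subst N'; try simp only [s1, s2, s3, c1, c2, c3, pow_zero, pow_one, mul_one])
      · exact ⟨_, m0, Nat.lcm_dvd ⟨(a + 2), by ring⟩ ⟨(a + 2), by ring⟩⟩
      · exact ⟨_, m0, Nat.lcm_dvd ⟨(a + 2), by ring⟩ ⟨(a), by ring⟩⟩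
  · -- k = 1, μ = 2
    change N' ∈ Lr 0 (a + 1) at hN'
    simp only [Lr, List.mem_cons, List.mem_singleton, List.not_mem_nil, or_false] at hN'
    rcases he with he | he
    · subst e
      have h := hN'
      all_goals (subst N'; try simp only [s1, s2, s3, c1, c2, c3, pow_zero, pow_one, mul_one])
      · exact ⟨_, m3, Nat.lcm_dvd ⟨(1), by ring⟩ ⟨(2 * a + 4), by ring⟩⟩
    · subst e
      have h := hN'
      all_goals (subst N'; try simp only [s1, s2, s3, c1, c2, c3, pow_zero, pow_one, mul_one])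
      · exact ⟨_, m2, Nat.lcm_dvd ⟨(1), by ring⟩ ⟨(2 * a), by ring⟩⟩
  · -- k = 2, μ = 1
    change N' ∈ Lr 0 (a + 1) at hN'
    simp only [Lr, List.mem_cons, List.mem_singleton, List.not_mem_nil, or_false] at hN'
    rcases he with he | he
    · subst e
      have h := hN'
      all_goals (subst N'; try simp only [s1, s2, s3, c1, c2, c3, pow_zero, pow_one, mul_one])
      · exact ⟨_, m1, Nat.lcm_dvd ⟨(1), by ring⟩ ⟨(a ^ 2 + 2 * a + 2), by ring⟩⟩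
    · subst e
      have h := hN'
      all_goals (subst N'; try simp only [s1, s2, s3, c1, c2, c3, pow_zero, pow_one, mul_one])
      · exact ⟨_, m0, Nat.lcm_dvd ⟨(1), by ring⟩ ⟨(a ^ 2 + 2 * a), by ring⟩⟩

end Cfsg.Agent.Helper94.Sg
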