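import Mathlib
import Cfsg.Agent.Helper94.Sg.Defs

set_option autoImplicit false
set_option linter.unusedSimpArgs false
set_option linter.unnecessarySeqFocus false
set_option linter.unusedSectionVars false
set_option linter.unusedVariables false

/-!
# (AR3) closure of the exponent lists, half-dimension 3 (pure ℕ)

`Lr` is in `Sg/Defs.lean`.  Cases `(k, μ) ∈ {(1,1), (1,2), (1,3), (2,1), (3,1)}` (`k μ ≤ 3`), two signs for `e`, and `N' ∈ Lr (3 - k μ) q`.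
`Nat.clog 2 1 = 0`, `Nat.clog 2 2 = 1`, `Nat.clog 2 3 = 2`.  In each case choose `N ∈ Lr 3 q` and use `Nat.lcm_dvd` with elementary divisibilities
(`a * 2 ^ c ∣ 2 ^ j * M` from `a ∣ M` and `c ≤ j`; `q ^ 2 - 1 = (q - 1) * (q + 1)`, `q ^ 3 - 1 = (q - 1) * (q ^ 2 + q + 1)`, `q ^ 3 + 1 = (q + 1) * (q ^ 2 - q + 1)`:
substitute `q = t + 2` to avoid truncated subtraction, or `zify`).  Table (`−` is `q^k − 1`, `+` is `q^k + 1`):
`(3,1)`: `N = q ^ 3 ± 1`.  `(2,1)`, `N' = q ± 1`: `+`: `N = (q ^ 2 + 1) * (q ± 1)`; `−`: `lcm (q ^ 2 - 1) (q ± 1) = q ^ 2 - 1 ∣ 2 * (q ^ 2 - 1)`.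
`(1,1)`, `N' ∈ Lr 2 q = [q^2-1, q^2+1, 2(q-1), 2(q+1)]`: `lcm (q ± 1) (q ^ 2 - 1) ∣ 2 * (q ^ 2 - 1)`; `lcm (q ± 1) (q ^ 2 + 1) ∣ (q ^ 2 + 1) * (q ± 1)`;
  `lcm (q ± 1) (2 * (q ± 1))` (same sign) `∣ 4 * (q ± 1)`; opposite signs `∣ 2 * (q ^ 2 - 1)`.
`(1,2)`, `N' = q ± 1`: `lcm ((q ± 1) * 2) (q ± 1)`: same sign `∣ 4 * (q ± 1)`, opposite `∣ 2 * (q ^ 2 - 1)`.  `(1,3)`, `N' = 1`: `N = 4 * (q ± 1)`.
-/

namespace Cfsg.Agent.Helper94.Sg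

theorem ar3 (q : ℕ) (hq : 2 ≤ q) (k μ e N' : ℕ) (hk : 1 ≤ k) (hμ : 1 ≤ μ) (hkμ : k * μ ≤ 3)
    (he : e = q ^ k + 1 ∨ e = q ^ k - 1) (hN' : N' ∈ Lr (3 - k * μ) q) :
    ∃ N ∈ Lr 3 q, Nat.lcm (e * 2 ^ Nat.clog 2 μ) N' ∣ N := by
  obtain ⟨a, rfl⟩ : ∃ a, q = a + 1 := ⟨q - 1, by omega⟩
  have s1 : a + 1 - 1 = a := by omega
  have s2 : (a + 1) ^ 2 - 1 = a * (a + 2) := Nat.sub_eq_of_eq_add (by ring)
  have s3 : (a + 1) ^ 3 - 1 = a * (a ^ 2 + 3 * a + 3) := Nat.sub_eq_of_eq_add (by ring)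
  have c1 : Nat.clog 2 1 = 0 := by decide
  have c2 : Nat.clog 2 2 = 1 := by decide
  have c3 : Nat.clog 2 3 = 2 := by decide
  have m0 : a * (a ^ 2 + 3 * a + 3) ∈ Lr 3 (a + 1) := by simp [Lr, s1, s2, s3]
  have m1 : ((a + 1) ^ 3 + 1) ∈ Lr 3 (a + 1) := by simp [Lr, s1, s2, s3]
  have m2 : ((a + 1) ^ 2 + 1) * a ∈ Lr 3 (a + 1) := by simp [Lr, s1, s2, s3]
  have m3 : ((a + 1) ^ 2 + 1) * (a + 1 + 1) ∈ Lr 3 (a + 1) := by simp [Lr, s1, s2, s3]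
  have m4 : 2 * (a * (a + 2)) ∈ Lr 3 (a + 1) := by simp [Lr, s1, s2, s3]
  have m5 : 4 * a ∈ Lr 3 (a + 1) := by simp [Lr, s1, s2, s3]
  have m6 : 4 * (a + 1 + 1) ∈ Lr 3 (a + 1) := by simp [Lr, s1, s2, s3]
  have hcases : (k = 1 ∧ μ = 1) ∨ (k = 1 ∧ μ = 2) ∨ (k = 1 ∧ μ = 3) ∨ (k = 2 ∧ μ = 1) ∨ (k = 3 ∧ μ = 1) := by
    have hk3 : k ≤ 3 := by nlinarith
    have hμ3 : μ ≤ 3 := by nlinarith
    interval_cases k <;> interval_cases μ <;> omega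
  rcases hcases with ⟨rfl, rfl⟩ | ⟨rfl, rfl⟩ | ⟨rfl, rfl⟩ | ⟨rfl, rfl⟩ | ⟨rfl, rfl⟩
  · -- k = 1, μ = 1
    change N' ∈ Lr 2 (a + 1) at hN'
    simp only [Lr, List.mem_cons, List.mem_singleton, List.not_mem_nil, or_false] at hN'
    rcases he with he | he
    · subst e
      rcases hN' with h | h | h | h
      all_goals (subst N'; try simp only [s1, s2, s3, c1, c2, c3, pow_zero, pow_one, mul_one])
      · exact ⟨_, m4, Nat.lcm_dvd ⟨(2 * a), by ring⟩ ⟨(2), by ring⟩⟩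
      · exact ⟨_, m3, Nat.lcm_dvd ⟨(a ^ 2 + 2 * a + 2), by ring⟩ ⟨(a + 2), by ring⟩⟩
      · exact ⟨_, m4, Nat.lcm_dvd ⟨(2 * a), by ring⟩ ⟨(a + 2), by ring⟩⟩
      · exact ⟨_, m4, Nat.lcm_dvd ⟨(2 * a), by ring⟩ ⟨(a), by ring⟩⟩
    · subst e
      rcases hN' with h | h | h | h
      all_goals (subst N'; try simp only [s1, s2, s3, c1, c2, c3, pow_zero, pow_one, mul_one])
      · exact ⟨_, m4, Nat.lcm_dvd ⟨(2 * a + 4), by ring⟩ ⟨(2), by ring⟩⟩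
      · exact ⟨_, m2, Nat.lcm_dvd ⟨(a ^ 2 + 2 * a + 2), by ring⟩ ⟨(a), by ring⟩⟩
      · exact ⟨_, m4, Nat.lcm_dvd ⟨(2 * a + 4), by ring⟩ ⟨(a + 2), by ring⟩⟩
      · exact ⟨_, m4, Nat.lcm_dvd ⟨(2 * a + 4), by ring⟩ ⟨(a), by ring⟩⟩
  · -- k = 1, μ = 2
    change N' ∈ Lr 1 (a + 1) at hN'
    simp only [Lr, List.mem_cons, List.mem_singleton, List.not_mem_nil, or_false] at hN'
    rcases he with he | he
    · subst e
      rcases hN' with h | h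
      all_goals (subst N'; try simp only [s1, s2, s3, c1, c2, c3, pow_zero, pow_one, mul_one])
      · exact ⟨_, m4, Nat.lcm_dvd ⟨(a), by ring⟩ ⟨(2 * a + 4), by ring⟩⟩
      · exact ⟨_, m4, Nat.lcm_dvd ⟨(a), by ring⟩ ⟨(2 * a), by ring⟩⟩
    · subst e
      rcases hN' with h | h
      all_goals (subst N'; try simp only [s1, s2, s3, c1, c2, c3, pow_zero, pow_one, mul_one])
      · exact ⟨_, m4, Nat.lcm_dvd ⟨(a + 2), by ring⟩ ⟨(2 * a + 4), by ring⟩⟩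
      · exact ⟨_, m4, Nat.lcm_dvd ⟨(a + 2), by ring⟩ ⟨(2 * a), by ring⟩⟩
  · -- k = 1, μ = 3
    change N' ∈ Lr 0 (a + 1) at hN'
    simp only [Lr, List.mem_cons, List.mem_singleton, List.not_mem_nil, or_false] at hN'
    rcases he with he | he
    · subst e
      have h := hN'
      all_goals (subst N'; try simp only [s1, s2, s3, c1, c2, c3, pow_zero, pow_one, mul_one])
      · exact ⟨_, m6, Nat.lcm_dvd ⟨(1), by ring⟩ ⟨(4 * a + 8), by ring⟩⟩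
    · subst e
      have h := hN'
      all_goals (subst N'; try simp only [s1, s2, s3, c1, c2, c3, pow_zero, pow_one, mul_one])
      · exact ⟨_, m5, Nat.lcm_dvd ⟨(1), by ring⟩ ⟨(4 * a), by ring⟩⟩
  · -- k = 2, μ = 1
    change N' ∈ Lr 1 (a + 1) at hN'
    simp only [Lr, List.mem_cons, List.mem_singleton, List.not_mem_nil, or_false] at hN'
    rcases he with he | he
    · subst e
      rcases hN' with h | h
      all_goals (subst N'; try simp only [s1, s2, s3, c1, c2, c3, pow_zero, pow_one, mul_one])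
      · exact ⟨_, m2, Nat.lcm_dvd ⟨(a), by ring⟩ ⟨(a ^ 2 + 2 * a + 2), by ring⟩⟩
      · exact ⟨_, m3, Nat.lcm_dvd ⟨(a + 2), by ring⟩ ⟨(a ^ 2 + 2 * a + 2), by ring⟩⟩
    · subst e
      rcases hN' with h | h
      all_goals (subst N'; try simp only [s1, s2, s3, c1, c2, c3, pow_zero, pow_one, mul_one])
      · exact ⟨_, m4, Nat.lcm_dvd ⟨(2), by ring⟩ ⟨(2 * a + 4), by ring⟩⟩
      · exact ⟨_, m4, Nat.lcm_dvd ⟨(2), by ring⟩ ⟨(2 * a), by ring⟩⟩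
  · -- k = 3, μ = 1
    change N' ∈ Lr 0 (a + 1) at hN'
    simp only [Lr, List.mem_cons, List.mem_singleton, List.not_mem_nil, or_false] at hN'
    rcases he with he | he
    · subst e
      have h := hN'
      all_goals (subst N'; try simp only [s1, s2, s3, c1, c2, c3, pow_zero, pow_one, mul_one])
      · exact ⟨_, m1, Nat.lcm_dvd ⟨(1), by ring⟩ ⟨(a ^ 3 + 3 * a ^ 2 + 3 * a + 2), by ring⟩⟩
    · subst e
      have h := hN'
      all_goals (subst N'; try simp only [s1, s2, s3, c1, c2, c3, pow_zero, pow_one, mul_one])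
      · exact ⟨_, m0, Nat.lcm_dvd ⟨(1), by ring⟩ ⟨(a ^ 3 + 3 * a ^ 2 + 3 * a), by ring⟩⟩

end Cfsg.Agent.Helper94.Sg
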