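import Mathlib
import Cfsg.Agent.Helper94.Sg.Defs

set_option autoImplicit false
set_option linter.unusedSectionVars false
set_option linter.unusedVariables false
set_option linter.unusedSimpArgs false

/-!
# (AR4A) closure of the exponent lists, half-dimension 4, blocks with `k = 1` (pure ℕ)

`Lr` is in `Sg/Defs.lean`.  `k = 1`, `μ ∈ {1,2,3,4}`, `e = q ± 1`, `N' ∈ Lr (4 - μ) q`.  `Nat.clog 2 μ = 0, 1, 2, 2`.
Choose `N ∈ Lr 4 q = [q^4+1, q^4-1, (q^3-1)(q+1), (q^3+1)(q-1), 2((q^2+1)(q+1)), 2((q^2+1)(q-1)), 4(q^2-1)]` and use `Nat.lcm_dvd`.  Table: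
`μ = 1`, `N' ∈ Lr 3 q`: `q^3 - 1` with `q + 1`: `(q^3-1)(q+1)`; `q^3 - 1` with `q - 1`: `q^3 - 1 ∣ (q^3-1)(q+1)`; `q^3 + 1` with `q - 1`: `(q^3+1)(q-1)`; with `q + 1`: `∣ (q^3+1)(q-1)`;
  `(q^2+1)(q-1)` with `q - 1`: `∣ q^4 - 1`; with `q + 1`: `∣ q^4 - 1` (`q^4 - 1 = (q^2+1)(q-1)(q+1)`); `(q^2+1)(q+1)` likewise; `2(q^2-1)` with `q ± 1`: `∣ 4(q^2-1)`;
  `4(q ± 1)` with `q ± 1`: `∣ 4(q^2-1)`.
`μ = 2`, `N' ∈ Lr 2 q`: `lcm (2(q ± 1)) (q^2-1) ∣ 4(q^2-1)`; `lcm (2(q ± 1)) (q^2+1) ∣ 2((q^2+1)(q ± 1))`; `lcm (2(q ± 1)) (2(q ± 1)) ∣ 4(q^2-1)`.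
`μ = 3`, `N' = q ± 1`: `lcm (4(q ± 1)) (q ± 1) ∣ 4(q^2-1)`.  `μ = 4`, `N' = 1`: `4(q ± 1) ∣ 4(q^2-1)`.
Identities: substitute `q = t + 2` (`obtain ⟨t, rfl⟩ : ∃ t, q = t + 2`) and `ring`/`Nat.sub` lemmas, or `zify`.
-/

namespace Cfsg.Agent.Helper94.Sg

theorem ar4a (q : ℕ) (hq : 2 ≤ q) (μ e N' : ℕ) (hμ : 1 ≤ μ) (hkμ : μ ≤ 4)
    (he : e = q + 1 ∨ e = q - 1) (hN' : N' ∈ Lr (4 - μ) q) :
    ∃ N ∈ Lr 4 q, Nat.lcm (e * 2 ^ Nat.clog 2 μ) N' ∣ N := by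
  obtain ⟨a, rfl⟩ : ∃ a, q = a + 1 := ⟨q - 1, by omega⟩
  have s1 : a + 1 - 1 = a := by omega
  have s2 : (a + 1) ^ 2 - 1 = a * (a + 2) := Nat.sub_eq_of_eq_add (by ring)
  have s3 : (a + 1) ^ 3 - 1 = a * (a ^ 2 + 3 * a + 3) := Nat.sub_eq_of_eq_add (by ring)
  have s4 : (a + 1) ^ 4 - 1 = a * (a + 2) * (a ^ 2 + 2 * a + 2) := Nat.sub_eq_of_eq_add (by ring)
  have c1 : Nat.clog 2 1 = 0 := by decide
  have c2 : Nat.clog 2 2 = 1 := by decide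
  have c3 : Nat.clog 2 3 = 2 := by decide
  have c4 : Nat.clog 2 4 = 2 := by decide
  have m0 : (a + 1) ^ 4 + 1 ∈ Lr 4 (a + 1) := by simp [Lr]
  have m1 : a * (a + 2) * (a ^ 2 + 2 * a + 2) ∈ Lr 4 (a + 1) := by rw [← s4]; simp [Lr]
  have m2 : a * (a ^ 2 + 3 * a + 3) * (a + 1 + 1) ∈ Lr 4 (a + 1) := by rw [← s3]; simp [Lr]
  have m3 : ((a + 1) ^ 3 + 1) * a ∈ Lr 4 (a + 1) := by simp [Lr]
  have m4 : 2 * (((a + 1) ^ 2 + 1) * (a + 1 + 1)) ∈ Lr 4 (a + 1) := by simp [Lr]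
  have m5 : 2 * (((a + 1) ^ 2 + 1) * a) ∈ Lr 4 (a + 1) := by simp [Lr]
  have m6 : 4 * (a * (a + 2)) ∈ Lr 4 (a + 1) := by rw [← s2]; simp [Lr]
  interval_cases μ
  · change N' ∈ Lr 3 (a + 1) at hN'
    simp only [Lr, List.mem_cons, List.mem_singleton, List.not_mem_nil, or_false] at hN'
    rcases he with he | he
    · subst e
      rcases hN' with h | h | h | h | h | h | h
      all_goals (subst N'; try simp only [s1, s2, s3, s4, c1, c2, c3, c4, pow_zero, pow_one, mul_one])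
      · exact ⟨_, m2, Nat.lcm_dvd ⟨a * (a ^ 2 + 3 * a + 3), by ring⟩ ⟨(a + 2), by ring⟩⟩
      · exact ⟨_, m3, Nat.lcm_dvd ⟨a * (a ^ 2 + a + 1), by ring⟩ ⟨a, by ring⟩⟩
      · exact ⟨_, m1, Nat.lcm_dvd ⟨a * (a ^ 2 + 2 * a + 2), by ring⟩ ⟨(a + 2), by ring⟩⟩
      · exact ⟨_, m1, Nat.lcm_dvd ⟨a * (a ^ 2 + 2 * a + 2), by ring⟩ ⟨a, by ring⟩⟩
      · exact ⟨_, m6, Nat.lcm_dvd ⟨4 * a, by ring⟩ ⟨2, by ring⟩⟩
      · exact ⟨_, m6, Nat.lcm_dvd ⟨4 * a, by ring⟩ ⟨(a + 2), by ring⟩⟩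
      · exact ⟨_, m6, Nat.lcm_dvd ⟨4 * a, by ring⟩ ⟨a, by ring⟩⟩
    · subst e
      rcases hN' with h | h | h | h | h | h | h
      all_goals (subst N'; try simp only [s1, s2, s3, s4, c1, c2, c3, c4, pow_zero, pow_one, mul_one])
      · exact ⟨_, m2, Nat.lcm_dvd ⟨(a + 2) * (a ^ 2 + 3 * a + 3), by ring⟩ ⟨(a + 2), by ring⟩⟩
      · exact ⟨_, m3, Nat.lcm_dvd ⟨(a + 2) * (a ^ 2 + a + 1), by ring⟩ ⟨a, by ring⟩⟩
      · exact ⟨_, m1, Nat.lcm_dvd ⟨(a + 2) * (a ^ 2 + 2 * a + 2), by ring⟩ ⟨(a + 2), by ring⟩⟩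
      · exact ⟨_, m1, Nat.lcm_dvd ⟨(a + 2) * (a ^ 2 + 2 * a + 2), by ring⟩ ⟨a, by ring⟩⟩
      · exact ⟨_, m6, Nat.lcm_dvd ⟨4 * (a + 2), by ring⟩ ⟨2, by ring⟩⟩
      · exact ⟨_, m6, Nat.lcm_dvd ⟨4 * (a + 2), by ring⟩ ⟨(a + 2), by ring⟩⟩
      · exact ⟨_, m6, Nat.lcm_dvd ⟨4 * (a + 2), by ring⟩ ⟨a, by ring⟩⟩
  · change N' ∈ Lr 2 (a + 1) at hN'
    simp only [Lr, List.mem_cons, List.mem_singleton, List.not_mem_nil, or_false] at hN'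
    rcases he with he | he
    · subst e
      rcases hN' with h | h | h | h
      all_goals (subst N'; try simp only [s1, s2, s3, s4, c1, c2, c3, c4, pow_zero, pow_one, mul_one])
      · exact ⟨_, m6, Nat.lcm_dvd ⟨2 * a, by ring⟩ ⟨4, by ring⟩⟩
      · exact ⟨_, m4, Nat.lcm_dvd ⟨(a ^ 2 + 2 * a + 2), by ring⟩ ⟨2 * (a + 2), by ring⟩⟩
      · exact ⟨_, m6, Nat.lcm_dvd ⟨2 * a, by ring⟩ ⟨2 * (a + 2), by ring⟩⟩
      · exact ⟨_, m4, Nat.lcm_dvd ⟨(a ^ 2 + 2 * a + 2), by ring⟩ ⟨(a ^ 2 + 2 * a + 2), by ring⟩⟩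
    · subst e
      rcases hN' with h | h | h | h
      all_goals (subst N'; try simp only [s1, s2, s3, s4, c1, c2, c3, c4, pow_zero, pow_one, mul_one])
      · exact ⟨_, m6, Nat.lcm_dvd ⟨2 * (a + 2), by ring⟩ ⟨4, by ring⟩⟩
      · exact ⟨_, m5, Nat.lcm_dvd ⟨(a ^ 2 + 2 * a + 2), by ring⟩ ⟨2 * a, by ring⟩⟩
      · exact ⟨_, m5, Nat.lcm_dvd ⟨(a ^ 2 + 2 * a + 2), by ring⟩ ⟨(a ^ 2 + 2 * a + 2), by ring⟩⟩
      · exact ⟨_, m6, Nat.lcm_dvd ⟨2 * (a + 2), by ring⟩ ⟨2 * a, by ring⟩⟩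
  · change N' ∈ Lr 1 (a + 1) at hN'
    simp only [Lr, List.mem_cons, List.mem_singleton, List.not_mem_nil, or_false] at hN'
    rcases he with he | he
    · subst e
      rcases hN' with h | h
      all_goals (subst N'; try simp only [s1, s2, s3, s4, c1, c2, c3, c4, pow_zero, pow_one, mul_one])
      · exact ⟨_, m6, Nat.lcm_dvd ⟨a, by ring⟩ ⟨4 * (a + 2), by ring⟩⟩
      · exact ⟨_, m6, Nat.lcm_dvd ⟨a, by ring⟩ ⟨4 * a, by ring⟩⟩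
    · subst e
      rcases hN' with h | h
      all_goals (subst N'; try simp only [s1, s2, s3, s4, c1, c2, c3, c4, pow_zero, pow_one, mul_one])
      · exact ⟨_, m6, Nat.lcm_dvd ⟨(a + 2), by ring⟩ ⟨4 * (a + 2), by ring⟩⟩
      · exact ⟨_, m6, Nat.lcm_dvd ⟨(a + 2), by ring⟩ ⟨4 * a, by ring⟩⟩
  · change N' ∈ Lr 0 (a + 1) at hN'
    simp only [Lr, List.mem_cons, List.mem_singleton, List.not_mem_nil, or_false] at hN'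
    rcases he with he | he
    · subst e
      have h := hN'
      all_goals (subst N'; try simp only [s1, s2, s3, s4, c1, c2, c3, c4, pow_zero, pow_one, mul_one])
      · exact ⟨_, m6, Nat.lcm_dvd ⟨a, by ring⟩ ⟨4 * a * (a + 2), by ring⟩⟩
    · subst e
      have h := hN'
      all_goals (subst N'; try simp only [s1, s2, s3, s4, c1, c2, c3, c4, pow_zero, pow_one, mul_one])
      · exact ⟨_, m6, Nat.lcm_dvd ⟨(a + 2), by ring⟩ ⟨4 * a * (a + 2), by ring⟩⟩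

end Cfsg.Agent.Helper94.Sg
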