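import Mathlib
import Cfsg.Agent.Helper94.Sg.Defs

set_option autoImplicit false
set_option linter.unusedSectionVars false
set_option linter.unusedVariables false
set_option linter.unusedSimpArgs false

/-!
# (AR4B) closure of the exponent lists, half-dimension 4, blocks with `k ≥ 2` (pure ℕ)

`Lr` is in `Sg/Defs.lean`.  `(k, μ) ∈ {(2,1), (2,2), (3,1), (4,1)}`, `e = q ^ k ± 1`, `N' ∈ Lr (4 - k μ) q`.
Choose `N ∈ Lr 4 q = [q^4+1, q^4-1, (q^3-1)(q+1), (q^3+1)(q-1), 2((q^2+1)(q+1)), 2((q^2+1)(q-1)), 4(q^2-1)]` and use `Nat.lcm_dvd`.  Table: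
`(4,1)`: `N = q^4 ± 1`.  `(3,1)`, `N' = q ± 1`: `lcm (q^3-1) (q+1) ∣ (q^3-1)(q+1)`, `lcm (q^3-1) (q-1) = q^3-1 ∣ (q^3-1)(q+1)`, `lcm (q^3+1) (q-1) ∣ (q^3+1)(q-1)`, `lcm (q^3+1) (q+1) ∣ (q^3+1)(q-1)`.
`(2,2)`, `N' = 1`: `2(q^2+1) ∣ 2((q^2+1)(q+1))`, `2(q^2-1) ∣ 4(q^2-1)`.
`(2,1)`, `N' ∈ Lr 2 q = [q^2-1, q^2+1, 2(q-1), 2(q+1)]`: `e = q^2+1`: with `q^2-1`: `∣ q^4-1`; with `q^2+1`: `∣ q^4-1`; with `2(q ± 1)`: `∣ 2((q^2+1)(q ± 1))`;
  `e = q^2-1`: with `q^2-1`: `∣ q^4-1`; with `q^2+1`: `∣ q^4-1`; with `2(q ± 1)`: `∣ 4(q^2-1)`.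
Identities (`q^4 - 1 = (q^2+1)(q^2-1)`, `q^2 - 1 = (q-1)(q+1)`, `q^3 - 1 = (q-1)(q^2+q+1)`, `q^3 + 1 = (q+1)(q^2-q+1)`): substitute `q = t + 2` or `zify`.
-/

namespace Cfsg.Agent.Helper94.Sg

theorem ar4b (q : ℕ) (hq : 2 ≤ q) (k μ e N' : ℕ) (hk : 2 ≤ k) (hμ : 1 ≤ μ) (hkμ : k * μ ≤ 4)
    (he : e = q ^ k + 1 ∨ e = q ^ k - 1) (hN' : N' ∈ Lr (4 - k * μ) q) :
    ∃ N ∈ Lr 4 q, Nat.lcm (e * 2 ^ Nat.clog 2 μ) N' ∣ N := by
  obtain ⟨a, rfl⟩ : ∃ a, q = a + 1 := ⟨q - 1, by omega⟩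
  have s1 : a + 1 - 1 = a := by omega
  have s2 : (a + 1) ^ 2 - 1 = a * (a + 2) := Nat.sub_eq_of_eq_add (by ring)
  have s3 : (a + 1) ^ 3 - 1 = a * (a ^ 2 + 3 * a + 3) := Nat.sub_eq_of_eq_add (by ring)
  have s4 : (a + 1) ^ 4 - 1 = a * (a + 2) * (a ^ 2 + 2 * a + 2) := Nat.sub_eq_of_eq_add (by ring)
  have c1 : Nat.clog 2 1 = 0 := by decide
  have c2 : Nat.clog 2 2 = 1 := by decide
  have c3 : Nat.clog 2 3 = 2 := by decide
  have c4 : Nat.clog 2 4 = 2 := by decide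
  have m0 : (a + 1) ^ 4 + 1 ∈ Lr 4 (a + 1) := by simp [Lr]
  have m1 : a * (a + 2) * (a ^ 2 + 2 * a + 2) ∈ Lr 4 (a + 1) := by rw [← s4]; simp [Lr]
  have m2 : a * (a ^ 2 + 3 * a + 3) * (a + 1 + 1) ∈ Lr 4 (a + 1) := by rw [← s3]; simp [Lr]
  have m3 : ((a + 1) ^ 3 + 1) * a ∈ Lr 4 (a + 1) := by simp [Lr]
  have m4 : 2 * (((a + 1) ^ 2 + 1) * (a + 1 + 1)) ∈ Lr 4 (a + 1) := by simp [Lr]
  have m5 : 2 * (((a + 1) ^ 2 + 1) * a) ∈ Lr 4 (a + 1) := by simp [Lr]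
  have m6 : 4 * (a * (a + 2)) ∈ Lr 4 (a + 1) := by rw [← s2]; simp [Lr]
  have hk4 : k ≤ 4 := by nlinarith
  interval_cases k
  · have hμ2 : μ ≤ 2 := by omega
    interval_cases μ
    · change N' ∈ Lr 2 (a + 1) at hN'
      simp only [Lr, List.mem_cons, List.mem_singleton, List.not_mem_nil, or_false] at hN'
      rcases he with he | he
      · subst e
        rcases hN' with h | h | h | h
        all_goals (subst N'; try simp only [s1, s2, s3, s4, c1, c2, c3, c4, pow_zero, pow_one, mul_one])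
        · exact ⟨_, m1, Nat.lcm_dvd ⟨a * (a + 2), by ring⟩ ⟨(a ^ 2 + 2 * a + 2), by ring⟩⟩
        · exact ⟨_, m1, Nat.lcm_dvd ⟨a * (a + 2), by ring⟩ ⟨a * (a + 2), by ring⟩⟩
        · exact ⟨_, m5, Nat.lcm_dvd ⟨2 * a, by ring⟩ ⟨(a ^ 2 + 2 * a + 2), by ring⟩⟩
        · exact ⟨_, m4, Nat.lcm_dvd ⟨2 * (a + 2), by ring⟩ ⟨(a ^ 2 + 2 * a + 2), by ring⟩⟩
      · subst e
        rcases hN' with h | h | h | h
        all_goals (subst N'; try simp only [s1, s2, s3, s4, c1, c2, c3, c4, pow_zero, pow_one, mul_one])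
        · exact ⟨_, m1, Nat.lcm_dvd ⟨(a ^ 2 + 2 * a + 2), by ring⟩ ⟨(a ^ 2 + 2 * a + 2), by ring⟩⟩
        · exact ⟨_, m1, Nat.lcm_dvd ⟨(a ^ 2 + 2 * a + 2), by ring⟩ ⟨a * (a + 2), by ring⟩⟩
        · exact ⟨_, m6, Nat.lcm_dvd ⟨4, by ring⟩ ⟨2 * (a + 2), by ring⟩⟩
        · exact ⟨_, m6, Nat.lcm_dvd ⟨4, by ring⟩ ⟨2 * a, by ring⟩⟩
    · change N' ∈ Lr 0 (a + 1) at hN'
      simp only [Lr, List.mem_cons, List.mem_singleton, List.not_mem_nil, or_false] at hN'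
      rcases he with he | he
      · subst e
        have h := hN'
        all_goals (subst N'; try simp only [s1, s2, s3, s4, c1, c2, c3, c4, pow_zero, pow_one, mul_one])
        · exact ⟨_, m4, Nat.lcm_dvd ⟨(a + 2), by ring⟩ ⟨2 * (a + 2) * (a ^ 2 + 2 * a + 2), by ring⟩⟩
      · subst e
        have h := hN'
        all_goals (subst N'; try simp only [s1, s2, s3, s4, c1, c2, c3, c4, pow_zero, pow_one, mul_one])
        · exact ⟨_, m6, Nat.lcm_dvd ⟨2, by ring⟩ ⟨4 * a * (a + 2), by ring⟩⟩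
  · have hμ2 : μ ≤ 1 := by omega
    interval_cases μ
    · change N' ∈ Lr 1 (a + 1) at hN'
      simp only [Lr, List.mem_cons, List.mem_singleton, List.not_mem_nil, or_false] at hN'
      rcases he with he | he
      · subst e
        rcases hN' with h | h
        all_goals (subst N'; try simp only [s1, s2, s3, s4, c1, c2, c3, c4, pow_zero, pow_one, mul_one])
        · exact ⟨_, m3, Nat.lcm_dvd ⟨a, by ring⟩ ⟨(a + 2) * (a ^ 2 + a + 1), by ring⟩⟩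
        · exact ⟨_, m3, Nat.lcm_dvd ⟨a, by ring⟩ ⟨a * (a ^ 2 + a + 1), by ring⟩⟩
      · subst e
        rcases hN' with h | h
        all_goals (subst N'; try simp only [s1, s2, s3, s4, c1, c2, c3, c4, pow_zero, pow_one, mul_one])
        · exact ⟨_, m2, Nat.lcm_dvd ⟨(a + 2), by ring⟩ ⟨(a + 2) * (a ^ 2 + 3 * a + 3), by ring⟩⟩
        · exact ⟨_, m2, Nat.lcm_dvd ⟨(a + 2), by ring⟩ ⟨a * (a ^ 2 + 3 * a + 3), by ring⟩⟩
  · have hμ2 : μ ≤ 1 := by omega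
    interval_cases μ
    · change N' ∈ Lr 0 (a + 1) at hN'
      simp only [Lr, List.mem_cons, List.mem_singleton, List.not_mem_nil, or_false] at hN'
      rcases he with he | he
      · subst e
        have h := hN'
        all_goals (subst N'; try simp only [s1, s2, s3, s4, c1, c2, c3, c4, pow_zero, pow_one, mul_one])
        · exact ⟨_, m0, Nat.lcm_dvd ⟨1, by ring⟩ ⟨((a + 1) ^ 4 + 1), by ring⟩⟩
      · subst e
        have h := hN'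
        all_goals (subst N'; try simp only [s1, s2, s3, s4, c1, c2, c3, c4, pow_zero, pow_one, mul_one])
        · exact ⟨_, m1, Nat.lcm_dvd ⟨1, by ring⟩ ⟨a * (a + 2) * (a ^ 2 + 2 * a + 2), by ring⟩⟩

end Cfsg.Agent.Helper94.Sg
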