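import Mathlib
import Cfsg.Agent.Helper94.Sg.Defs

set_option autoImplicit false
set_option linter.unusedSectionVars false
set_option linter.unusedVariables false

/-!
# (ARF) from the exponent lists to the twelve numbers (pure ℕ)

`Lr`, `fin12` are in `Sg/Defs.lean`.  `a ∈ {0,…,4}` is half the multiplicity of the root `1`; `2 ^ Nat.clog 2 (2 a) = 1, 2, 4, 8, 8`.
`a = 0`: `Lr 4 q ⊆ fin12 q`.  `a = 1`, `N' ∈ Lr 3 q`: `lcm 2 (q^3 ± 1) ∣ 2(q^3 ± 1)`, `lcm 2 ((q^2+1)(q ± 1)) ∣ 2((q^2+1)(q ± 1))`, `lcm 2 (2(q^2-1)) ∣ 4(q^2-1)`,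
`lcm 2 (4(q ± 1)) ∣ 8(q ± 1)`.  `a = 2`, `N' ∈ Lr 2 q`: `lcm 4 (q^2 ± 1) ∣ 4(q^2 ± 1)`, `lcm 4 (2(q ± 1)) ∣ 8(q ± 1)`.  `a = 3`: `lcm 8 (q ± 1) ∣ 8(q ± 1)`.
`a = 4`: `lcm 8 1 ∣ 8(q+1)`.
-/

namespace Cfsg.Agent.Helper94.Sg

theorem arf_c0 : Nat.clog 2 (2 * 0) = 0 := by decide
theorem arf_c1 : Nat.clog 2 (2 * 1) = 1 := by decide
theorem arf_c2 : Nat.clog 2 (2 * 2) = 2 := by decide
theorem arf_c3 : Nat.clog 2 (2 * 3) = 3 := by decide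
theorem arf_c4 : Nat.clog 2 (2 * 4) = 3 := by decide

theorem arf (q : ℕ) (hq : 2 ≤ q) (a N' : ℕ) (ha : a ≤ 4) (hN' : N' ∈ Lr (4 - a) q) :
    ∃ N ∈ fin12 q, Nat.lcm (2 ^ Nat.clog 2 (2 * a)) N' ∣ N := by
  interval_cases a
  · -- a = 0
    rw [arf_c0, pow_zero, Nat.lcm_one_left]
    refine ⟨N', ?_, dvd_rfl⟩
    simp only [Nat.sub_zero, Lr, List.mem_cons, List.not_mem_nil, or_false] at hN'
    simp only [fin12, List.mem_cons, List.not_mem_nil, or_false]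
    rcases hN' with h | h | h | h | h | h | h <;> simp [h]
  · -- a = 1
    rw [arf_c1, pow_one]
    simp only [show 4 - 1 = 3 from rfl, Lr, List.mem_cons, List.not_mem_nil, or_false] at hN'
    rcases hN' with h | h | h | h | h | h | h <;> subst h
    · exact ⟨2 * (q ^ 3 - 1), by simp [fin12], Nat.lcm_dvd (Dvd.intro _ rfl) (Dvd.intro_left _ rfl)⟩
    · exact ⟨2 * (q ^ 3 + 1), by simp [fin12], Nat.lcm_dvd (Dvd.intro _ rfl) (Dvd.intro_left _ rfl)⟩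
    · exact ⟨2 * ((q ^ 2 + 1) * (q - 1)), by simp [fin12],
        Nat.lcm_dvd (Dvd.intro _ rfl) (Dvd.intro_left _ rfl)⟩
    · exact ⟨2 * ((q ^ 2 + 1) * (q + 1)), by simp [fin12],
        Nat.lcm_dvd (Dvd.intro _ rfl) (Dvd.intro_left _ rfl)⟩
    · exact ⟨4 * (q ^ 2 - 1), by simp [fin12],
        Nat.lcm_dvd ⟨2 * (q ^ 2 - 1), by ring⟩ ⟨2, by ring⟩⟩
    · exact ⟨8 * (q - 1), by simp [fin12],
        Nat.lcm_dvd ⟨4 * (q - 1), by ring⟩ ⟨2, by ring⟩⟩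
    · exact ⟨8 * (q + 1), by simp [fin12],
        Nat.lcm_dvd ⟨4 * (q + 1), by ring⟩ ⟨2, by ring⟩⟩
  · -- a = 2
    rw [arf_c2]
    simp only [show 4 - 2 = 2 from rfl, Lr, List.mem_cons, List.not_mem_nil, or_false] at hN'
    rcases hN' with h | h | h | h <;> subst h
    · exact ⟨4 * (q ^ 2 - 1), by simp [fin12],
        Nat.lcm_dvd ⟨q ^ 2 - 1, by ring⟩ (Dvd.intro_left _ rfl)⟩
    · exact ⟨4 * (q ^ 2 + 1), by simp [fin12],
        Nat.lcm_dvd ⟨q ^ 2 + 1, by ring⟩ (Dvd.intro_left _ rfl)⟩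
    · exact ⟨8 * (q - 1), by simp [fin12],
        Nat.lcm_dvd ⟨2 * (q - 1), by ring⟩ ⟨4, by ring⟩⟩
    · exact ⟨8 * (q + 1), by simp [fin12],
        Nat.lcm_dvd ⟨2 * (q + 1), by ring⟩ ⟨4, by ring⟩⟩
  · -- a = 3
    rw [arf_c3]
    simp only [show 4 - 3 = 1 from rfl, Lr, List.mem_cons, List.not_mem_nil, or_false] at hN'
    rcases hN' with h | h <;> subst h
    · exact ⟨8 * (q - 1), by simp [fin12],
        Nat.lcm_dvd ⟨q - 1, by ring⟩ (Dvd.intro_left _ rfl)⟩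
    · exact ⟨8 * (q + 1), by simp [fin12],
        Nat.lcm_dvd ⟨q + 1, by ring⟩ (Dvd.intro_left _ rfl)⟩
  · -- a = 4
    rw [arf_c4]
    simp only [show 4 - 4 = 0 from rfl, Lr, List.mem_cons, List.not_mem_nil, or_false] at hN'
    subst hN'
    exact ⟨8 * (q + 1), by simp [fin12], Nat.lcm_dvd ⟨q + 1, by ring⟩ (one_dvd _)⟩

end Cfsg.Agent.Helper94.Sg
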