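import Mathlib
import Cfsg.Agent.Helper94.Sg.Defs
import Cfsg.Agent.Helper94.Eo.P_STEP
import Cfsg.Agent.Helper94.Eo.P_BLK
import Cfsg.Agent.Helper94.Eo.P_F1
import Cfsg.Agent.Helper94.Eo.P_F2
import Cfsg.Agent.Helper94.Eo.P_REV

set_option autoImplicit false
set_option linter.unusedSectionVars false
set_option linter.unusedVariables false

/-!
# (PEEL) peel one primary block off a self-reciprocal polynomial without the root 1 (characteristic 2)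

`ψ` monic, `SR` (self-reciprocal up to a constant, `Eo/Defs`), `ψ(1) ≠ 0`, degree `2 r ≥ 2`.  Take a monic irreducible factor `f` of `ψ`
(`Polynomial.exists_monic_irreducible_factor`-style: `ψ` is not a unit since its degree is positive; `f.coeff 0 ≠ 0` since `ψ.coeff 0 ≠ 0`).
* `mrev f = f`: `Eo.step_A` gives `ψ = f ^ μ * ψ'`, coprime, `ψ'` monic `SR`.  `f` is `SR` (`Eo.sr_of_mrev_eq`); `¬ f ∣ X ^ 2 - 1` because
  `X ^ 2 - 1 = (X - 1) ^ 2` in characteristic 2 and `f ∣ (X - 1) ^ 2` would give `f ∣ X - 1` (`Irreducible`/`Prime`), i.e. `f(1) = 0`, so `ψ(1) = 0`.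
  `Eo.sr_irreducible_dvd`: `f.natDegree = 2 * k`, `f ∣ X ^ (q ^ k + 1) - 1`; `Eo.BLK_pow_dvd` (with `ringChar F = 2`, `ringChar.eq F 2`):
  `f ^ μ ∣ X ^ ((q ^ k + 1) * 2 ^ clog 2 μ) - 1`.  `B := f ^ μ`, `e := q ^ k + 1`.
* `mrev f ≠ f`: `Eo.step_B` gives `ψ = (f * mrev f) ^ μ * ψ'`; `k := f.natDegree ≥ 1`; `f` and `mrev f` both divide `X ^ (q ^ k - 1) - 1`
  (`Eo.dvd_X_pow_card_pow_sub_one`, `Eo.mrev_irreducible`, `Eo.mrev_natDegree`, `Eo.mrev_coeff_zero`) and are coprime (distinct monic irreducibles,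
  `Eo.mrev_monic`), so their product divides it (`IsCoprime.mul_dvd`); `Eo.BLK_pow_dvd`.  `B := (f * mrev f) ^ μ`, `e := q ^ k - 1`.
  The proof of `ob_blockB` in `Eo/P_BLK.lean` does exactly this, copy freely.
Degrees: `ψ.natDegree = B.natDegree + ψ'.natDegree` (`Monic.natDegree_mul`), `B.natDegree = 2 * (k * μ)`.  `ψ'(1) ≠ 0` from `ψ(1) = B(1) ψ'(1)`.
-/

namespace Cfsg.Agent.Helper94.Sg

open Polynomial

universe u
variable {F : Type u} [Field F] [Fintype F] [CharP F 2]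

theorem PEEL_coeff_zero_ne {ψ f : F[X]} (hsr : Eo.SR ψ) (hdvd : f ∣ ψ) : f.coeff 0 ≠ 0 := by
  intro h
  obtain ⟨g, rfl⟩ := hdvd
  apply hsr.1
  rw [mul_coeff_zero, h, zero_mul]

theorem PEEL_eval_one_ne {ψ f : F[X]} (hf : Irreducible f) (hdvd : f ∣ ψ) (h1 : ψ.eval 1 ≠ 0) :
    ¬ f ∣ X ^ 2 - 1 := by
  intro h
  have h2 : (X ^ 2 - 1 : F[X]) = (X - 1) ^ 2 := by
    have h3 : (2 : F[X]) = 0 := by
      have : ((2 : ℕ) : F[X]) = 0 := CharP.cast_eq_zero (F[X]) 2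
      exact_mod_cast this
    have : (X - 1 : F[X]) ^ 2 = X ^ 2 - 2 * X + 1 := by ring
    rw [this, h3, zero_mul, sub_zero]
    have h4 : (1 : F[X]) = -1 := by
      have : (1 : F[X]) + 1 = 0 := by rw [one_add_one_eq_two, h3]
      exact eq_neg_of_add_eq_zero_left this
    rw [sub_eq_add_neg, ← h4]
  rw [h2] at h
  have h3 : f ∣ X - 1 := hf.prime.dvd_of_dvd_pow h
  have h4 : Associated f (X - C (1 : F)) := by
    apply hf.associated_of_dvd (irreducible_X_sub_C 1)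
    simpa using h3
  have h5 : (X - C (1 : F)) ∣ ψ := h4.symm.dvd.trans hdvd
  rw [dvd_iff_isRoot] at h5
  exact h1 h5

theorem PEEL_eval_factor {ψ B ψ' : F[X]} (h : ψ = B * ψ') (h1 : ψ.eval 1 ≠ 0) : ψ'.eval 1 ≠ 0 := by
  intro h0
  apply h1
  rw [h, eval_mul, h0, mul_zero]

theorem peel {ψ : F[X]} {r : ℕ} (hr : 1 ≤ r) (hm : ψ.Monic) (hsr : Eo.SR ψ) (h1 : ψ.eval 1 ≠ 0)
    (hdeg : ψ.natDegree = 2 * r) :
    ∃ (k μ e : ℕ) (B ψ' : F[X]), 1 ≤ k ∧ 1 ≤ μ ∧ k * μ ≤ r ∧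
      (e = Fintype.card F ^ k + 1 ∨ e = Fintype.card F ^ k - 1) ∧
      ψ = B * ψ' ∧ IsCoprime B ψ' ∧ B ∣ X ^ (e * 2 ^ Nat.clog 2 μ) - 1 ∧
      ψ'.Monic ∧ Eo.SR ψ' ∧ ψ'.eval 1 ≠ 0 ∧ ψ'.natDegree = 2 * (r - k * μ) := by
  have hnu : ¬ IsUnit ψ := by
    intro hu
    have := natDegree_eq_zero_of_isUnit hu
    omega
  obtain ⟨f, hfm, hf, hdvd⟩ := exists_monic_irreducible_factor ψ hnu
  have h0 : f.coeff 0 ≠ 0 := PEEL_coeff_zero_ne hsr hdvd
  have hchar : ringChar F = 2 := ringChar.eq F 2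
  by_cases hrev : Eo.mrev f = f
  · obtain ⟨μ, ψ', hμ, hψ, hψ'm, hψ'sr, hcop⟩ := Eo.step_A hm hsr hf hfm hdvd hrev
    have hsrf : Eo.SR f := Eo.sr_of_mrev_eq h0 hrev
    have h2 : ¬ f ∣ X ^ 2 - 1 := PEEL_eval_one_ne hf hdvd h1
    obtain ⟨k, hk, hkdeg, hkdvd⟩ := Eo.sr_irreducible_dvd hf hsrf h2
    have hB := Eo.BLK_pow_dvd hkdvd μ
    rw [hchar] at hB
    have hdegB : (f ^ μ).natDegree = 2 * (k * μ) := by
      rw [hfm.natDegree_pow, hkdeg]; ring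
    have hdegψ : ψ.natDegree = (f ^ μ).natDegree + ψ'.natDegree := by
      conv_lhs => rw [hψ]
      exact (hfm.pow μ).natDegree_mul hψ'm
    rw [hdeg, hdegB] at hdegψ
    refine ⟨k, μ, Fintype.card F ^ k + 1, f ^ μ, ψ', hk, hμ, by omega, Or.inl rfl, hψ, hcop, hB,
      hψ'm, hψ'sr, PEEL_eval_factor hψ h1, by omega⟩
  · obtain ⟨μ, ψ', hμ, hψ, hψ'm, hψ'sr, hcop⟩ := Eo.step_B hm hsr hf hfm hdvd hrev
    have hl : 1 ≤ f.natDegree := Irreducible.natDegree_pos hf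
    have hirr : Irreducible (Eo.mrev f) := Eo.mrev_irreducible hf h0
    have hd1 : f ∣ X ^ (Fintype.card F ^ f.natDegree - 1) - 1 :=
      Eo.dvd_X_pow_card_pow_sub_one hf h0
    have hd2 : Eo.mrev f ∣ X ^ (Fintype.card F ^ f.natDegree - 1) - 1 := by
      have := Eo.dvd_X_pow_card_pow_sub_one hirr (Eo.mrev_coeff_zero hfm h0)
      rw [Eo.mrev_natDegree h0] at this
      exact this
    have hcop2 : IsCoprime f (Eo.mrev f) := by
      rw [Irreducible.coprime_iff_not_dvd hf]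
      intro hdvd'
      have hassoc : Associated f (Eo.mrev f) := hf.associated_of_dvd hirr hdvd'
      exact hrev (eq_of_monic_of_associated hfm (Eo.mrev_monic h0) hassoc).symm
    have hd : f * Eo.mrev f ∣ X ^ (Fintype.card F ^ f.natDegree - 1) - 1 := hcop2.mul_dvd hd1 hd2
    have hB := Eo.BLK_pow_dvd hd μ
    rw [hchar] at hB
    have hmm : (f * Eo.mrev f).Monic := hfm.mul (Eo.mrev_monic h0)
    have hdegB : ((f * Eo.mrev f) ^ μ).natDegree = 2 * (f.natDegree * μ) := by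
      rw [hmm.natDegree_pow, hfm.natDegree_mul (Eo.mrev_monic h0), Eo.mrev_natDegree h0]; ring
    have hdegψ : ψ.natDegree = ((f * Eo.mrev f) ^ μ).natDegree + ψ'.natDegree := by
      conv_lhs => rw [hψ]
      exact (hmm.pow μ).natDegree_mul hψ'm
    rw [hdeg, hdegB] at hdegψ
    refine ⟨f.natDegree, μ, Fintype.card F ^ f.natDegree - 1, (f * Eo.mrev f) ^ μ, ψ', hl, hμ,
      by omega, Or.inr rfl, hψ, hcop, hB, hψ'm, hψ'sr, PEEL_eval_factor hψ h1, by omega⟩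

end Cfsg.Agent.Helper94.Sg
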