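import Mathlib
import Cfsg.Agent.Helper94.Sg.Defs
import Cfsg.Agent.Helper94.Sg.P_PEEL
import Cfsg.Agent.Helper94.Sg.P_AR12
import Cfsg.Agent.Helper94.Sg.P_AR3
import Cfsg.Agent.Helper94.Sg.P_AR4A
import Cfsg.Agent.Helper94.Sg.P_AR4B
import Cfsg.Agent.Helper94.Sg.P_ARF
import Cfsg.Agent.Helper94.Eo.P_CP
import Cfsg.Agent.Helper44.OrthRealizeA

set_option autoImplicit false
set_option linter.unusedSectionVars false
set_option linter.unusedVariables false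

/-!
# S3589: the upper bound — every self-reciprocal monic polynomial of degree 8 over a finite field of
characteristic 2 divides `X ^ N - 1` for one of the twelve numbers `N ∈ fin12 q`
-/

namespace Cfsg.Agent.Helper94.Sg

open Polynomial

universe u
variable {F : Type u} [Field F] [Fintype F] [CharP F 2]

theorem cov_of_peel {ψ B ψ' : F[X]} {b N' N : ℕ} (hψ : ψ = B * ψ') (hcop : IsCoprime B ψ')
    (hB : B ∣ X ^ b - 1) (hψ' : ψ' ∣ X ^ N' - 1) (hN : Nat.lcm b N' ∣ N) : ψ ∣ X ^ N - 1 := by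
  have h1 : B ∣ X ^ N - 1 :=
    hB.trans (Eo.X_pow_sub_one_dvd ((Nat.dvd_lcm_left b N').trans hN))
  have h2 : ψ' ∣ X ^ N - 1 :=
    hψ'.trans (Eo.X_pow_sub_one_dvd ((Nat.dvd_lcm_right b N').trans hN))
  rw [hψ]
  exact hcop.mul_dvd h1 h2

/-- the inductive step -/
theorem cov_succ (r : ℕ) (hr : 1 ≤ r)
    (ar : ∀ k μ e N' : ℕ, 1 ≤ k → 1 ≤ μ → k * μ ≤ r →
      (e = Fintype.card F ^ k + 1 ∨ e = Fintype.card F ^ k - 1) →
      N' ∈ Lr (r - k * μ) (Fintype.card F) →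
      ∃ N ∈ Lr r (Fintype.card F), Nat.lcm (e * 2 ^ Nat.clog 2 μ) N' ∣ N)
    (ih : ∀ r' : ℕ, r' < r → ∀ ψ' : F[X], ψ'.Monic → Eo.SR ψ' → ψ'.eval 1 ≠ 0 →
      ψ'.natDegree = 2 * r' → Cov (Lr r' (Fintype.card F)) ψ')
    (ψ : F[X]) (hm : ψ.Monic) (hsr : Eo.SR ψ) (h1 : ψ.eval 1 ≠ 0) (hdeg : ψ.natDegree = 2 * r) :
    Cov (Lr r (Fintype.card F)) ψ := by
  obtain ⟨k, μ, e, B, ψ', hk, hμ, hkμ, he, hfac, hcop, hB, hm', hsr', h1', hdeg'⟩ :=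
    peel hr hm hsr h1 hdeg
  have hpos : 0 < k * μ := Nat.mul_pos hk hμ
  obtain ⟨N', hN', hdvd'⟩ := ih (r - k * μ) (by omega) ψ' hm' hsr' h1' hdeg'
  obtain ⟨N, hN, hlcm⟩ := ar k μ e N' hk hμ hkμ he hN'
  exact ⟨N, hN, cov_of_peel hfac hcop hB hdvd' hlcm⟩

theorem cov0 (ψ : F[X]) (hm : ψ.Monic) (hdeg : ψ.natDegree = 2 * 0) :
    Cov (Lr 0 (Fintype.card F)) ψ := by
  have h1 : ψ = 1 := by
    rw [← hm.natDegree_eq_zero]
    simpa using hdeg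
  refine ⟨1, by simp [Lr], ?_⟩
  rw [h1]
  exact one_dvd _

theorem two_le_q : 2 ≤ Fintype.card F := Fintype.one_lt_card

theorem cov1 (ψ : F[X]) (hm : ψ.Monic) (hsr : Eo.SR ψ) (h1 : ψ.eval 1 ≠ 0)
    (hdeg : ψ.natDegree = 2 * 1) : Cov (Lr 1 (Fintype.card F)) ψ := by
  refine cov_succ 1 le_rfl (fun k μ e N' hk hμ hkμ he hN' =>
    ar1 _ two_le_q k μ e N' hk hμ hkμ he hN') ?_ ψ hm hsr h1 hdeg
  intro r' hr' ψ' hm' hsr' h1' hdeg'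
  have : r' = 0 := by omega
  subst this
  exact cov0 ψ' hm' hdeg'

theorem cov2 (ψ : F[X]) (hm : ψ.Monic) (hsr : Eo.SR ψ) (h1 : ψ.eval 1 ≠ 0)
    (hdeg : ψ.natDegree = 2 * 2) : Cov (Lr 2 (Fintype.card F)) ψ := by
  refine cov_succ 2 (by norm_num) (fun k μ e N' hk hμ hkμ he hN' =>
    ar2 _ two_le_q k μ e N' hk hμ hkμ he hN') ?_ ψ hm hsr h1 hdeg
  intro r' hr' ψ' hm' hsr' h1' hdeg'
  have : r' = 0 ∨ r' = 1 := by omega
  rcases this with rfl | rfl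
  · exact cov0 ψ' hm' hdeg'
  · exact cov1 ψ' hm' hsr' h1' hdeg'

theorem cov3 (ψ : F[X]) (hm : ψ.Monic) (hsr : Eo.SR ψ) (h1 : ψ.eval 1 ≠ 0)
    (hdeg : ψ.natDegree = 2 * 3) : Cov (Lr 3 (Fintype.card F)) ψ := by
  refine cov_succ 3 (by norm_num) (fun k μ e N' hk hμ hkμ he hN' =>
    ar3 _ two_le_q k μ e N' hk hμ hkμ he hN') ?_ ψ hm hsr h1 hdeg
  intro r' hr' ψ' hm' hsr' h1' hdeg'
  have : r' = 0 ∨ r' = 1 ∨ r' = 2 := by omega
  rcases this with rfl | rfl | rfl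
  · exact cov0 ψ' hm' hdeg'
  · exact cov1 ψ' hm' hsr' h1' hdeg'
  · exact cov2 ψ' hm' hsr' h1' hdeg'

theorem cov4 (ψ : F[X]) (hm : ψ.Monic) (hsr : Eo.SR ψ) (h1 : ψ.eval 1 ≠ 0)
    (hdeg : ψ.natDegree = 2 * 4) : Cov (Lr 4 (Fintype.card F)) ψ := by
  refine cov_succ 4 (by norm_num) ?_ ?_ ψ hm hsr h1 hdeg
  · intro k μ e N' hk hμ hkμ he hN'
    rcases Nat.lt_or_ge k 2 with hk2 | hk2
    · have hk1 : k = 1 := by omega
      subst hk1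
      rw [pow_one] at he
      rw [one_mul] at hkμ hN'
      exact ar4a _ two_le_q μ e N' hμ hkμ he hN'
    · exact ar4b _ two_le_q k μ e N' hk2 hμ hkμ he hN'
  · intro r' hr' ψ' hm' hsr' h1' hdeg'
    have : r' = 0 ∨ r' = 1 ∨ r' = 2 ∨ r' = 3 := by omega
    rcases this with rfl | rfl | rfl | rfl
    · exact cov0 ψ' hm' hdeg'
    · exact cov1 ψ' hm' hsr' h1' hdeg'
    · exact cov2 ψ' hm' hsr' h1' hdeg'
    · exact cov3 ψ' hm' hsr' h1' hdeg'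

theorem cov_le4 (r : ℕ) (hr : r ≤ 4) (ψ : F[X]) (hm : ψ.Monic) (hsr : Eo.SR ψ)
    (h1 : ψ.eval 1 ≠ 0) (hdeg : ψ.natDegree = 2 * r) : Cov (Lr r (Fintype.card F)) ψ := by
  have : r = 0 ∨ r = 1 ∨ r = 2 ∨ r = 3 ∨ r = 4 := by omega
  rcases this with rfl | rfl | rfl | rfl | rfl
  · exact cov0 ψ hm hdeg
  · exact cov1 ψ hm hsr h1 hdeg
  · exact cov2 ψ hm hsr h1 hdeg
  · exact cov3 ψ hm hsr h1 hdeg
  · exact cov4 ψ hm hsr h1 hdeg

/-- the top level: a monic self-reciprocal polynomial of degree 8 -/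
theorem cov_top (χ : F[X]) (hm : χ.Monic) (hdeg : χ.natDegree = 8) (hrev : χ.reverse = χ) :
    Cov (fin12 (Fintype.card F)) χ := by
  obtain ⟨a, g, ha, hfac, hgm, hgdeg, hgrev, hg1⟩ :=
    Cfsg.Agent.Helper44.QType.exists_decomp 4 χ hm (by rw [hdeg]) hrev
  have hg0 : g ≠ 0 := hgm.ne_zero
  have hgsr : Eo.SR g := Eo.sr_of_reverse_eq hg0 hgrev
  have hg1' : g.eval 1 ≠ 0 := by
    intro h
    apply hg1
    have h2 : (X - C (1 : F)) ∣ g := dvd_iff_isRoot.mpr h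
    rwa [C_1] at h2
  obtain ⟨N', hN', hdvd'⟩ := cov_le4 (4 - a) (by omega) g hgm hgsr hg1' hgdeg
  obtain ⟨N, hN, hlcm⟩ := arf _ two_le_q a N' ha hN'
  refine ⟨N, hN, ?_⟩
  have hfact : Fact (Nat.Prime 2) := ⟨Nat.prime_two⟩
  have hA : (X - 1 : F[X]) ^ (2 * a) ∣ X ^ (2 ^ Nat.clog 2 (2 * a)) - 1 :=
    (Eo.cpart_dvd (F := F) (p := 2) (a₂ := 2 * a) (b₂ := 0) (t := Nat.clog 2 (2 * a))
      (Nat.le_pow_clog (by norm_num) _) (Nat.zero_le _)).1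
  have hcop : IsCoprime ((X - 1 : F[X]) ^ (2 * a)) g := by
    apply IsCoprime.pow_left
    have hirr : Irreducible (X - 1 : F[X]) := by
      have := irreducible_X_sub_C (1 : F)
      rwa [C_1] at this
    exact (hirr.coprime_iff_not_dvd).mpr hg1
  exact cov_of_peel hfac hcop hA hdvd' hlcm

end Cfsg.Agent.Helper94.Sg
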