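import Mathlib
import Cfsg.Agent.Helper94.Sg.Step
import Cfsg.Agent.Helper94.Sg.Exist
import Cfsg.Agent.Helper94.Sg.P_EMB
import Cfsg.Agent.Helper43.SpCountA

set_option autoImplicit false
set_option linter.unusedSectionVars false
set_option linter.unusedVariables false

/-!
# S3589: `Sp_8(q)` and `GO_8^-(q)`, `q` even, have the same element orders — assembly
-/

namespace Cfsg.Agent.Helper94.Sg

open Polynomial

universe u
variable {F : Type u} [Field F] [Fintype F]

/-- every element order of `PSp_8(q)`, `q` even, divides one of the twelve numbers -/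
theorem psp_orderOf_dvd [CharP F 2] (x : Cfsg.PSp 4 F) :
    ∃ N ∈ fin12 (Fintype.card F), orderOf x ∣ N := by
  obtain ⟨g, rfl⟩ := QuotientGroup.mk_surjective x
  set A : Matrix (Fin 4 ⊕ Fin 4) (Fin 4 ⊕ Fin 4) F := (g : Matrix (Fin 4 ⊕ Fin 4) (Fin 4 ⊕ Fin 4) F)
    with hA
  have hdeg : A.charpoly.natDegree = 8 := by
    rw [Matrix.charpoly_natDegree_eq_dim, Fintype.card_sum, Fintype.card_fin]
  obtain ⟨N, hN, c, hc⟩ := cov_top A.charpoly (Matrix.charpoly_monic A) hdeg
    (Cfsg.Agent.Helper43.SpCount.charpoly_reverse_of_mem_symplectic g)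
  refine ⟨N, hN, ?_⟩
  have hCH : aeval A A.charpoly = 0 := Matrix.aeval_self_charpoly A
  have hpow : A ^ N = 1 := by
    have := congrArg (aeval A) hc
    rw [map_mul, hCH, zero_mul, map_sub, map_pow, aeval_X, map_one] at this
    exact sub_eq_zero.mp this
  have hg : g ^ N = 1 := by
    apply Subtype.ext
    simpa using hpow
  apply orderOf_dvd_of_pow_eq_one
  rw [← QuotientGroup.mk_pow, hg]
  rfl

theorem spectrum_eq [CharP F 2] (a b : F)
    (han : ∀ z₁ z₂ : F, z₁ ^ 2 + a * z₁ * z₂ + b * z₂ ^ 2 = 0 → z₁ = 0 ∧ z₂ = 0) :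
    Set.range (orderOf : Cfsg.PSp 4 F → ℕ) =
      Set.range (orderOf : ↥(Cfsg.isometryGroup F (Cfsg.quadFormMinus 3 F a b)) → ℕ) := by
  apply Set.Subset.antisymm
  · rintro n ⟨x, rfl⟩
    obtain ⟨N, hN, hdvd⟩ := psp_orderOf_dvd x
    obtain ⟨g, hg⟩ := exists_fin12 a b han hN
    obtain ⟨d, hd⟩ := hdvd
    have hN0 : 0 < N := by rw [← hg]; exact orderOf_pos g
    have hd0 : d ≠ 0 := by
      rintro rfl
      rw [mul_zero] at hd
      omega
    refine ⟨g ^ d, ?_⟩
    rw [orderOf_pow_of_dvd hd0 (by rw [hg, hd]; exact Dvd.intro_left _ rfl), hg, hd]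
    exact Nat.mul_div_cancel _ (Nat.pos_of_ne_zero hd0)
  · rintro n ⟨g, rfl⟩
    obtain ⟨x, hx⟩ := exists_psp_orderOf a b han g
    exact ⟨x, hx⟩

end Cfsg.Agent.Helper94.Sg
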